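import Groth.Agent.NormalSection.Basic
import Groth.Agent.SchDense.Basic
import Groth.Agent.SchDense.Dense
import Groth.Agent.S9799
import Mathlib.AlgebraicGeometry.Morphisms.Finite

/-! Extending morphisms from a dense open of a normal scheme into a scheme integral over the base. -/

set_option autoImplicit false

universe u

open CategoryTheory CategoryTheory.Limits AlgebraicGeometry TopologicalSpace Topology

namespace Groth.Agent.NeronHD

theorem isReduced_of_normal {X : Scheme.{u}} (hX : Pi1.IsNormalScheme X) : IsReduced X := by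
  haveI : ∀ x : X, _root_.IsReduced (X.presheaf.stalk x) := fun x => by
    haveI := (hX x).1
    infer_instance
  exact isReduced_of_isReduced_stalk X

theorem isNormalScheme_opens {X : Scheme.{u}} (hX : Pi1.IsNormalScheme X) (V : X.Opens) :
    Pi1.IsNormalScheme (V : Scheme.{u}) := fun v => by
  haveI := (hX (V.ι v)).1
  haveI := (hX (V.ι v)).2
  exact ⟨MulEquiv.isDomain (X.presheaf.stalk (V.ι v))
      (asIso (V.ι.stalkMap v)).commRingCatIsoToRingEquiv.symm.toMulEquiv,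
    IsIntegrallyClosed.of_equiv (asIso (V.ι.stalkMap v)).commRingCatIsoToRingEquiv⟩

theorem exists_isIntegral_nhd {X : Scheme.{u}} [IsLocallyNoetherian X] (hX : Pi1.IsNormalScheme X) (x : X) :
    ∃ V : X.Opens, x ∈ V ∧ IsIntegral (V : Scheme.{u}) := by
  obtain ⟨W, hW, hxW, -⟩ := exists_isAffineOpen_mem_and_subset (x := x) (U := (⊤ : X.Opens)) trivial
  haveI : IsAffine W := hW
  haveI : IsLocallyNoetherian (W : Scheme.{u}) := isLocallyNoetherian_of_isOpenImmersion W.ι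
  haveI : IsNoetherian (W : Scheme.{u}) := {}
  have hfin : ∀ U : (W : Scheme.{u}).Opens, IsCompact (U : Set W) → (irreducibleComponents ↥U).Finite :=
    fun U _ => by
      haveI : NoetherianSpace (W : Scheme.{u}) := inferInstance
      haveI : NoetherianSpace ↥U := IsEmbedding.subtypeVal.isInducing.noetherianSpace
      exact NoetherianSpace.finite_irreducibleComponents
  let C := irreducibleComponent (⟨x, hxW⟩ : W)
  have hC := irreducibleComponent_mem_irreducibleComponents (⟨x, hxW⟩ : W)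
  have hCo : IsOpen C := (S9799.result W hfin (isNormalScheme_opens hX W)).1 C hC
  let V : X.Opens := W.ι ''ᵁ ⟨C, hCo⟩
  have hxV : x ∈ V := ⟨⟨x, hxW⟩, mem_irreducibleComponent, rfl⟩
  refine ⟨V, hxV, ?_⟩
  haveI : Nonempty V := ⟨⟨x, hxV⟩⟩
  haveI : IrreducibleSpace V := by
    have h : IsIrreducible (V : Set X) := hC.1.image W.ι W.ι.continuous.continuousOn
    have : PreirreducibleSpace (V : Set X) := Subtype.preirreducibleSpace h.isPreirreducible
    exact { toNonempty := ⟨⟨x, hxV⟩⟩, toPreirreducibleSpace := this }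
  haveI := isReduced_of_normal (isNormalScheme_opens hX V)
  exact isIntegral_of_irreducibleSpace_of_isReduced _

/-- A morphism from a dense open of a normal locally Noetherian scheme to a scheme integral over `S`
extends. -/
theorem exists_extension_integralHom {Z T S : Scheme.{u}} [IsLocallyNoetherian Z]
    (hZ : Pi1.IsNormalScheme Z) (q : Z ⟶ S) (π : T ⟶ S) [IsIntegralHom π] (U : Z.Opens)
    (hU : Dense (U : Set Z)) (h : (U : Scheme.{u}) ⟶ T) (hh : h ≫ π = U.ι ≫ q) :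
    ∃ g : Z ⟶ T, g ≫ π = q ∧ U.ι ≫ g = h := by
  haveI := isReduced_of_normal hZ
  have hloc : ∀ z : Z, ∃ (V : Z.Opens) (g : (V : Scheme.{u}) ⟶ T), z ∈ V ∧ g ≫ π = V.ι ≫ q ∧
      Z.homOfLE (inf_le_right : U ⊓ V ≤ V) ≫ g = Z.homOfLE (inf_le_left : U ⊓ V ≤ U) ≫ h := by
    intro z
    obtain ⟨V, hzV, hVint⟩ := exists_isIntegral_nhd hZ z
    let U' : (V : Scheme.{u}).Opens := V.ι ⁻¹ᵁ U
    have hU' : Dense (U' : Set V) := hU.preimage V.ι.isOpenEmbedding.isOpenMap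
    let r : (U' : Scheme.{u}) ⟶ U :=
      IsOpenImmersion.lift U.ι (U'.ι ≫ V.ι) (by rintro _ ⟨w, rfl⟩; rw [Scheme.Opens.range_ι]; exact w.2)
    have hr : r ≫ U.ι = U'.ι ≫ V.ι := IsOpenImmersion.lift_fac _ _ _
    haveI : IsIntegralHom (pullback.snd π (V.ι ≫ q)) := MorphismProperty.pullback_snd _ _ inferInstance
    obtain ⟨s, hs, hsU⟩ := NormalSection.exists_extend (pullback.snd π (V.ι ≫ q))
      (isNormalScheme_opens hZ V) U' hU'
      (pullback.lift (r ≫ h) U'.ι (by rw [Category.assoc, hh, reassoc_of% hr]))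
      (pullback.lift_snd _ _ _)
    refine ⟨V, s ≫ pullback.fst _ _, hzV, ?_, ?_⟩
    · rw [Category.assoc, pullback.condition, reassoc_of% hs]
    · let l : ((U ⊓ V : Z.Opens) : Scheme.{u}) ⟶ U' :=
        IsOpenImmersion.lift U'.ι (Z.homOfLE (inf_le_right : U ⊓ V ≤ V)) (by
          rintro _ ⟨w, rfl⟩
          rw [Scheme.Opens.range_ι]
          show V.ι (Z.homOfLE (inf_le_right : U ⊓ V ≤ V) w) ∈ U
          rw [← Scheme.Hom.comp_apply, Scheme.homOfLE_ι]
          exact w.2.1)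
      have hl : l ≫ U'.ι = Z.homOfLE (inf_le_right : U ⊓ V ≤ V) := IsOpenImmersion.lift_fac _ _ _
      have hlr : l ≫ r = Z.homOfLE (inf_le_left : U ⊓ V ≤ U) := by
        rw [← cancel_mono U.ι, Category.assoc, hr, reassoc_of% hl, Scheme.homOfLE_ι, Scheme.homOfLE_ι]
      rw [← hl, Category.assoc, reassoc_of% hsU, pullback.lift_fst, reassoc_of% hlr]
  choose V g hzV hg hgU using hloc
  have hcov : iSup V = ⊤ := eq_top_iff.2 fun z _ => Opens.mem_iSup.2 ⟨z, hzV z⟩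
  let 𝒰 := Z.openCoverOfIsOpenCover V hcov
  have hcompat : ∀ a b : Z, Z.homOfLE (inf_le_left : V a ⊓ V b ≤ V a) ≫ g a =
      Z.homOfLE (inf_le_right : V a ⊓ V b ≤ V b) ≫ g b := by
    intro a b
    let O := V a ⊓ V b
    let U₂ : (O : Scheme.{u}).Opens := O.ι ⁻¹ᵁ U
    let A : Over.mk (O.ι ≫ q) ⟶ Over.mk π := Over.homMk (Z.homOfLE (inf_le_left : O ≤ V a) ≫ g a)
      (by simp [hg])
    let B : Over.mk (O.ι ≫ q) ⟶ Over.mk π := Over.homMk (Z.homOfLE (inf_le_right : O ≤ V b) ≫ g b)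
      (by simp [hg])
    haveI : IsSeparated (Over.mk π).hom := inferInstanceAs (IsSeparated π)
    have hd : Dense (U₂ : Set O) := hU.preimage O.ι.isOpenEmbedding.isOpenMap
    have hfac : ∀ (c : Z) (hc : O ≤ V c), U₂.ι ≫ Z.homOfLE hc ≫ g c =
        IsOpenImmersion.lift U.ι (U₂.ι ≫ O.ι)
          (by rintro _ ⟨w, rfl⟩; rw [Scheme.Opens.range_ι]; exact w.2) ≫ h := by
      intro c hc
      let l : (U₂ : Scheme.{u}) ⟶ ((U ⊓ V c : Z.Opens) : Scheme.{u}) :=
        IsOpenImmersion.lift (U ⊓ V c).ι (U₂.ι ≫ O.ι) (by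
          rintro _ ⟨w, rfl⟩
          rw [Scheme.Opens.range_ι]
          exact ⟨w.2, hc (U₂.ι w).2⟩)
      have hl : l ≫ (U ⊓ V c).ι = U₂.ι ≫ O.ι := IsOpenImmersion.lift_fac _ _ _
      have h₁ : l ≫ Z.homOfLE (inf_le_right : U ⊓ V c ≤ V c) = U₂.ι ≫ Z.homOfLE hc := by
        rw [← cancel_mono (V c).ι, Category.assoc, Category.assoc, Scheme.homOfLE_ι, Scheme.homOfLE_ι, hl]
      rw [← reassoc_of% h₁, hgU c, ← Category.assoc]
      congr 1
      rw [← cancel_mono U.ι, Category.assoc, Scheme.homOfLE_ι, hl, IsOpenImmersion.lift_fac]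
    haveI : IsReduced (Over.mk (O.ι ≫ q)).left := inferInstanceAs (IsReduced (O : Scheme.{u}))
    refine congrArg CommaMorphism.left
      (SchDense.eq_of_isSeparated U₂ (SchDense.schDense_of_dense hd) A B ?_)
    show U₂.ι ≫ Z.homOfLE _ ≫ g a = U₂.ι ≫ Z.homOfLE _ ≫ g b
    rw [hfac a, hfac b]
  let G : Z ⟶ T := 𝒰.glueMorphisms g (by
    intro a b
    have := hcompat a b
    let l : pullback (𝒰.f a) (𝒰.f b) ⟶ ((V a ⊓ V b : Z.Opens) : Scheme.{u}) :=
      IsOpenImmersion.lift (V a ⊓ V b).ι (pullback.fst (𝒰.f a) (𝒰.f b) ≫ (V a).ι) (by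
        rintro _ ⟨p, rfl⟩
        rw [Scheme.Opens.range_ι]
        refine ⟨(pullback.fst (𝒰.f a) (𝒰.f b) p).2, ?_⟩
        have h0 : (pullback.fst (𝒰.f a) (𝒰.f b) ≫ (V a).ι) p =
            (pullback.snd (𝒰.f a) (𝒰.f b) ≫ (V b).ι) p :=
          congrArg (fun m : pullback (𝒰.f a) (𝒰.f b) ⟶ Z => m p) pullback.condition
        rw [h0]
        exact (pullback.snd (𝒰.f a) (𝒰.f b) p).2)
    have hl : l ≫ (V a ⊓ V b).ι = pullback.fst (𝒰.f a) (𝒰.f b) ≫ (V a).ι := IsOpenImmersion.lift_fac _ _ _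
    have h₁ : pullback.fst (𝒰.f a) (𝒰.f b) = l ≫ Z.homOfLE inf_le_left := by
      refine (cancel_mono (V a).ι).mp ?_
      exact hl.symm.trans (by rw [Category.assoc, Scheme.homOfLE_ι])
    have h₂ : pullback.snd (𝒰.f a) (𝒰.f b) = l ≫ Z.homOfLE inf_le_right := by
      refine (cancel_mono (V b).ι).mp ?_
      refine (pullback.condition (f := 𝒰.f a) (g := 𝒰.f b)).symm.trans ?_
      exact hl.symm.trans (by rw [Category.assoc, Scheme.homOfLE_ι])
    exact (congrArg (· ≫ g a) h₁).trans ((Category.assoc _ _ _).trans ((congrArg (l ≫ ·) this).trans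
      ((Category.assoc _ _ _).symm.trans (congrArg (· ≫ g b) h₂).symm))))
  have hG : ∀ a, (V a).ι ≫ G = g a := fun a => 𝒰.ι_glueMorphisms _ _ a
  refine ⟨G, 𝒰.hom_ext _ _ fun a => ?_, ?_⟩
  · show (V a).ι ≫ G ≫ π = (V a).ι ≫ q
    rw [reassoc_of% (hG a), hg]
  · refine Scheme.hom_ext_of_forall _ _ fun x => ?_
    refine ⟨U.ι ⁻¹ᵁ V (U.ι x), hzV _, ?_⟩
    let l : ((U.ι ⁻¹ᵁ V (U.ι x) : (U : Scheme.{u}).Opens) : Scheme.{u}) ⟶
        ((U ⊓ V (U.ι x) : Z.Opens) : Scheme.{u}) :=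
      IsOpenImmersion.lift (U ⊓ V (U.ι x)).ι ((U.ι ⁻¹ᵁ V (U.ι x)).ι ≫ U.ι) (by
        rintro _ ⟨w, rfl⟩
        rw [Scheme.Opens.range_ι]
        exact ⟨((U.ι ⁻¹ᵁ V (U.ι x)).ι w).2, w.2⟩)
    have hl := IsOpenImmersion.lift_fac (U ⊓ V (U.ι x)).ι ((U.ι ⁻¹ᵁ V (U.ι x)).ι ≫ U.ι) (by
        rintro _ ⟨w, rfl⟩
        rw [Scheme.Opens.range_ι]
        exact ⟨((U.ι ⁻¹ᵁ V (U.ι x)).ι w).2, w.2⟩)
    have h₁ : l ≫ Z.homOfLE (inf_le_left : U ⊓ V (U.ι x) ≤ U) = (U.ι ⁻¹ᵁ V (U.ι x)).ι := by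
      rw [← cancel_mono U.ι, Category.assoc, Scheme.homOfLE_ι, hl]
    have h₂ : (U.ι ⁻¹ᵁ V (U.ι x)).ι ≫ U.ι = l ≫ Z.homOfLE inf_le_right ≫ (V (U.ι x)).ι := by
      rw [Scheme.homOfLE_ι, hl]
    rw [reassoc_of% h₂, hG, hgU, reassoc_of% h₁]

end Groth.Agent.NeronHD
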