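import Mathlib.RingTheory.Smooth.StandardSmoothCotangent
import Mathlib.RingTheory.Kaehler.JacobiZariski
import Mathlib.RingTheory.Etale.Kaehler
import Mathlib.RingTheory.Ideal.KrullsHeightTheorem
import Mathlib.AlgebraicGeometry.Morphisms.Etale
import Groth.Agent.CIntCodim.Basic

/-! Morphisms of smooth schemes étale in codimension one are étale. -/

set_option autoImplicit false

universe u

open CategoryTheory AlgebraicGeometry
open scoped TensorProduct

namespace Groth.Agent.NeronHD

theorem etale_of_etale_height_le_one {A B C : Type u} [CommRing A] [CommRing B] [CommRing C]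
    [Algebra A B] [Algebra A C] [Algebra B C] [IsScalarTower A B C]
    [Algebra.IsStandardSmooth A B] [Algebra.IsStandardSmooth A C] [IsNoetherianRing C]
    (h : ∀ Q : Ideal C, Q.IsPrime → Q.height ≤ 1 →
      ∃ g : C, g ∉ Q ∧ Algebra.Etale B (Localization.Away g)) : Algebra.Etale B C := by
  classical
  haveI : Algebra.FinitePresentation B C := Algebra.FinitePresentation.of_restrict_scalars_finitePresentation A B C
  rcases subsingleton_or_nontrivial C with hC | hC
  · have := Module.subsingleton C Ω[C⁄B]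
    have := Module.subsingleton C (Algebra.H1Cotangent B C)
    exact ⟨{ subsingleton_kaehlerDifferential := ‹_›, subsingleton_h1Cotangent := ‹_› }, ‹_›⟩
  obtain ⟨ιB, σB, _, _, ⟨PB⟩⟩ := ‹Algebra.IsStandardSmooth A B›
  obtain ⟨ιC, σC, _, _, ⟨PC⟩⟩ := ‹Algebra.IsStandardSmooth A C›
  haveI hB : Algebra.IsStandardSmoothOfRelativeDimension PB.dimension A B := ⟨⟨_, _, _, ‹_›, PB, rfl⟩⟩
  haveI hC' : Algebra.IsStandardSmoothOfRelativeDimension PC.dimension A C := ⟨⟨_, _, _, ‹_›, PC, rfl⟩⟩
  haveI : Module.Free B Ω[B⁄A] := Algebra.IsStandardSmooth.free_kaehlerDifferential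
  haveI : Module.Free C Ω[C⁄A] := Algebra.IsStandardSmooth.free_kaehlerDifferential
  haveI : Nontrivial B := (algebraMap B C).domain_nontrivial
  -- equal ranks
  obtain ⟨P, hP⟩ := Ideal.nonempty_minimalPrimes (I := (⊥ : Ideal C)) bot_ne_top
  haveI := hP.1.1
  have hP1 : P.height ≤ 1 := by
    rw [Ideal.height_eq_zero_iff.2 hP]; exact zero_le
  have hrank : PB.dimension = PC.dimension := by
    obtain ⟨g, hg, het⟩ := h P inferInstance hP1
    haveI : Nontrivial (Localization.Away g) := by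
      refine (IsLocalization.toLocalizationMap (Submonoid.powers g) (Localization.Away g)).nontrivial ?_
      rintro ⟨n, hn⟩
      exact hg (hP.1.1.mem_of_pow_mem n (by rw [show g ^ n = 0 from hn]; exact P.zero_mem))
    haveI h2 : Algebra.IsStandardSmoothOfRelativeDimension 0 C (Localization.Away g) :=
      Algebra.IsStandardSmoothOfRelativeDimension.localization_away g
    haveI h3 : Algebra.IsStandardSmoothOfRelativeDimension (0 + PC.dimension) A (Localization.Away g) :=
      Algebra.IsStandardSmoothOfRelativeDimension.trans PC.dimension 0 A C _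
    have r1 := Algebra.IsStandardSmoothOfRelativeDimension.rank_kaehlerDifferential (R := A)
      (S := Localization.Away g) (0 + PC.dimension)
    have r2 := (KaehlerDifferential.tensorKaehlerEquivOfFormallyEtale A B (Localization.Away g)).rank_eq
    rw [r1, Module.rank_baseChange,
      Algebra.IsStandardSmoothOfRelativeDimension.rank_kaehlerDifferential (R := A) (S := B) PB.dimension,
      Cardinal.lift_natCast] at r2
    have : PB.dimension = 0 + PC.dimension := by exact_mod_cast r2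
    omega
  let n := PB.dimension
  haveI : Module.Finite B Ω[B⁄A] := inferInstance
  haveI : Module.Finite C Ω[C⁄A] := inferInstance
  have hnB : Module.finrank B Ω[B⁄A] = n := Module.finrank_eq_of_rank_eq
    (Algebra.IsStandardSmoothOfRelativeDimension.rank_kaehlerDifferential (R := A) (S := B) n)
  have hnC : Module.finrank C Ω[C⁄A] = n := Module.finrank_eq_of_rank_eq
    ((Algebra.IsStandardSmoothOfRelativeDimension.rank_kaehlerDifferential (R := A) (S := C) PC.dimension).trans
      (by rw [← hrank]))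
  let bB := (Module.finBasisOfFinrankEq B Ω[B⁄A] hnB).baseChange C
  let bC := Module.finBasisOfFinrankEq C Ω[C⁄A] hnC
  let L := KaehlerDifferential.mapBaseChange A B C
  let M : Matrix (Fin n) (Fin n) C := LinearMap.toMatrix bB bC L
  have hdet : IsUnit M.det := by
    by_contra hd
    obtain ⟨Q, hQ⟩ := Ideal.nonempty_minimalPrimes (I := Ideal.span {M.det})
      (fun e => hd (Ideal.span_singleton_eq_top.1 e))
    haveI := hQ.1.1
    obtain ⟨g, hg, het⟩ := h Q inferInstance (Ideal.height_le_one_of_isPrincipal_of_mem_minimalPrimes _ Q hQ)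
    have hkill : ∀ y : Ω[C⁄A], ∃ N : ℕ, g ^ N • y ∈ LinearMap.range L := fun y => by
      have hz : KaehlerDifferential.map B B C (Localization.Away g) (KaehlerDifferential.map A B C C y) = 0 :=
        Subsingleton.elim _ _
      obtain ⟨⟨_, N, rfl⟩, hN⟩ := (IsLocalizedModule.eq_zero_iff (Submonoid.powers g) _).1 hz
      refine ⟨N, ((KaehlerDifferential.exact_mapBaseChange_map A B C) _).1 ?_⟩
      rw [map_smul]
      exact hN
    choose N hN using fun j => hkill (bC j)
    let K := ∑ j, N j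
    have hK : ∀ j, g ^ K • bC j ∈ LinearMap.range L := fun j => by
      obtain ⟨e, he⟩ : g ^ N j ∣ g ^ K := pow_dvd_pow g (Finset.single_le_sum (f := N) (fun i _ => Nat.zero_le _) (Finset.mem_univ j))
      rw [show g ^ K = e * g ^ N j by rw [mul_comm, ← he], mul_smul]
      exact Submodule.smul_mem _ _ (hN j)
    choose z hz using hK
    have hLR : L ∘ₗ (bC.constr C z) = g ^ K • (LinearMap.id : Ω[C⁄A] →ₗ[C] Ω[C⁄A]) :=
      bC.ext fun j => by simp [L, hz]
    have hmat := congrArg (LinearMap.toMatrix bC bC) hLR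
    rw [LinearMap.toMatrix_comp bC bB bC, map_smul, LinearMap.toMatrix_id] at hmat
    have hdd := congrArg Matrix.det hmat
    rw [Matrix.det_mul, Matrix.det_smul, Matrix.det_one, mul_one, ← pow_mul] at hdd
    refine hg (hQ.1.1.mem_of_pow_mem (K * Fintype.card (Fin n)) ?_)
    rw [← hdd]
    exact Ideal.mul_mem_right _ _ (hQ.1.2 (Ideal.mem_span_singleton_self _))
  have hL : Function.Bijective L := by
    have hM : IsUnit M := (Matrix.isUnit_iff_isUnit_det M).2 hdet
    obtain ⟨u, hu⟩ := hM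
    let Li := Matrix.toLin bC bB ↑u⁻¹
    have e1 : L ∘ₗ Li = LinearMap.id := by
      rw [← Matrix.toLin_toMatrix bB bC L, ← Matrix.toLin_mul bC bB bC, show LinearMap.toMatrix bB bC L = ↑u from hu.symm,
        Units.mul_inv, Matrix.toLin_one]
    have e2 : Li ∘ₗ L = LinearMap.id := by
      rw [← Matrix.toLin_toMatrix bB bC L, ← Matrix.toLin_mul bB bC bB, show LinearMap.toMatrix bB bC L = ↑u from hu.symm,
        Units.inv_mul, Matrix.toLin_one]
    exact Function.bijective_iff_has_inverse.2 ⟨Li, fun a => LinearMap.congr_fun e2 a, fun a => LinearMap.congr_fun e1 a⟩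
  refine ⟨{ subsingleton_kaehlerDifferential := ?_, subsingleton_h1Cotangent := ?_ }, ‹_›⟩
  · refine ⟨fun a b => ?_⟩
    obtain ⟨a, rfl⟩ := KaehlerDifferential.map_surjective A B C a
    obtain ⟨b, rfl⟩ := KaehlerDifferential.map_surjective A B C b
    obtain ⟨a, rfl⟩ := hL.2 a
    obtain ⟨b, rfl⟩ := hL.2 b
    rw [(KaehlerDifferential.exact_mapBaseChange_map A B C).apply_apply_eq_zero,
      (KaehlerDifferential.exact_mapBaseChange_map A B C).apply_apply_eq_zero]
  · haveI : Subsingleton (Algebra.H1Cotangent A C) := Algebra.IsStandardSmooth.subsingleton_h1Cotangent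
    refine ⟨fun a b => ?_⟩
    have h0 : ∀ a : Algebra.H1Cotangent B C, a = 0 := fun a => by
      have hδ : Algebra.H1Cotangent.δ A B C a = 0 :=
        hL.1 ((Algebra.H1Cotangent.exact_δ_mapBaseChange (R := A) (S := B) (T := C)).apply_apply_eq_zero a
          |>.trans (map_zero _).symm)
      obtain ⟨c, rfl⟩ := ((Algebra.H1Cotangent.exact_map_δ (R := A) (S := B) (T := C)) a).1 hδ
      rw [Subsingleton.elim c 0, map_zero]
    rw [h0 a, h0 b]

/-- A morphism of smooth `S`-schemes étale outside a closed subset of codimension `≥ 2` is étale. -/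
theorem etale_of_etale_codim_two {X Y S : Scheme.{u}} [IsLocallyNoetherian S] (f : X ⟶ Y) (pX : X ⟶ S)
    (pY : Y ⟶ S) [Smooth pX] [Smooth pY] (hf : f ≫ pY = pX) (D : X.Opens)
    (hD : ∀ y : X, y ∉ D → 2 ≤ ringKrullDim (X.presheaf.stalk y)) [Etale (D.ι ≫ f)] : Etale f := by
  subst hf
  haveI : IsLocallyNoetherian X := LocallyOfFiniteType.isLocallyNoetherian (f ≫ pY)
  rw [HasRingHomProperty.iff_exists_appLE (P := @Etale)
    (RingHom.Etale.stableUnderComposition.stableUnderCompositionWithLocalizationAway fun R S _ _ _ r _ =>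
      RingHom.etale_algebraMap.2 (Algebra.Etale.of_isLocalizationAway r)).1]
  intro x
  obtain ⟨W, hW, U, hU, hxU, hle, hstd⟩ := Smooth.exists_isStandardSmooth pY (f x)
  obtain ⟨V, hV, hxV, hVU⟩ := exists_isAffineOpen_mem_and_subset (x := x) (U := f ⁻¹ᵁ U) hxU
  have hleV : V ≤ (f ≫ pY) ⁻¹ᵁ W := fun y hy => hle (hVU hy)
  letI : Algebra Γ(S, W) Γ(X, V) := ((f ≫ pY).appLE W V hleV).hom.toAlgebra
  haveI : Algebra.Smooth Γ(S, W) Γ(X, V) := RingHom.smooth_algebraMap.mp ((f ≫ pY).smooth_appLE hW hV hleV)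
  let q := hV.primeIdealOf ⟨x, hxV⟩
  obtain ⟨r, hr, hstdr⟩ := Algebra.IsSmoothAt.exists_notMem_isStandardSmooth Γ(S, W) (S := Γ(X, V)) q.asIdeal
  have hxr : x ∈ X.basicOpen r := by
    have h1 : q ∈ hV.fromSpec ⁻¹ᵁ X.basicOpen r := by rw [hV.fromSpec_preimage_basicOpen]; exact hr
    have h2 : hV.fromSpec q ∈ X.basicOpen r := h1
    rwa [hV.fromSpec_primeIdealOf] at h2
  let V' := X.basicOpen r
  have hV' : IsAffineOpen V' := hV.basicOpen r
  have hV'U : V' ≤ f ⁻¹ᵁ U := (X.basicOpen_le r).trans hVU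
  refine ⟨⟨U, hU⟩, ⟨V', hV'⟩, hxr, hV'U, ?_⟩
  letI : Algebra Γ(S, W) Γ(Y, U) := (pY.appLE W U hle).hom.toAlgebra
  letI : Algebra Γ(S, W) Γ(X, V') := ((f ≫ pY).appLE W V' ((X.basicOpen_le r).trans hleV)).hom.toAlgebra
  letI : Algebra Γ(Y, U) Γ(X, V') := (f.appLE U V' hV'U).hom.toAlgebra
  haveI : IsScalarTower Γ(S, W) Γ(Y, U) Γ(X, V') := IsScalarTower.of_algebraMap_eq' (by
    rw [RingHom.algebraMap_toAlgebra, RingHom.algebraMap_toAlgebra, RingHom.algebraMap_toAlgebra]
    exact congrArg CommRingCat.Hom.hom (Scheme.Hom.appLE_comp_appLE f pY W U V' hle hV'U).symm)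
  haveI : IsScalarTower Γ(S, W) Γ(X, V) Γ(X, V') := IsScalarTower.of_algebraMap_eq' (by
    rw [RingHom.algebraMap_toAlgebra, RingHom.algebraMap_toAlgebra]
    exact congrArg CommRingCat.Hom.hom
      (Scheme.Hom.appLE_map (f ≫ pY) hleV (homOfLE (X.basicOpen_le r)).op).symm)
  haveI := hV.isLocalization_basicOpen r
  haveI : Algebra.IsStandardSmooth Γ(S, W) Γ(Y, U) := hstd
  haveI := hstdr
  haveI : Algebra.IsStandardSmooth Γ(S, W) Γ(X, V') :=
    Algebra.IsStandardSmooth.of_algEquiv
      ((IsLocalization.algEquiv (Submonoid.powers r) (Localization.Away r) Γ(X, V')).restrictScalars Γ(S, W))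
  haveI : IsNoetherianRing Γ(X, V') := IsLocallyNoetherian.component_noetherian ⟨V', hV'⟩
  rw [← RingHom.algebraMap_toAlgebra (f.appLE U V' hV'U).hom, RingHom.etale_algebraMap]
  refine etale_of_etale_height_le_one (A := Γ(S, W)) fun Q hQ hQh => ?_
  let Qp : PrimeSpectrum Γ(X, V') := ⟨Q, hQ⟩
  let y := hV'.fromSpec Qp
  have hyV : y ∈ V' := hV'.range_fromSpec.le ⟨Qp, rfl⟩
  have hprime : hV'.primeIdealOf ⟨y, hyV⟩ = Qp :=
    hV'.fromSpec.isOpenEmbedding.injective (hV'.fromSpec_primeIdealOf ⟨y, hyV⟩)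
  have hyD : y ∈ D := by
    by_contra hn
    letI := TopCat.Presheaf.algebra_section_stalk X.presheaf (⟨y, hyV⟩ : V')
    haveI := hV'.isLocalization_stalk ⟨y, hyV⟩
    have h2 := hD y hn
    rw [IsLocalization.AtPrime.ringKrullDim_eq_height (hV'.primeIdealOf ⟨y, hyV⟩).asIdeal,
      hprime] at h2
    have h3 : (2 : ℕ∞) ≤ Q.height := WithBot.coe_le_coe.mp h2
    exact absurd (h3.trans hQh) (by decide)
  obtain ⟨g, hgD, hyg⟩ := hV'.exists_basicOpen_le (V := D) ⟨y, hyD⟩ hyV
  refine ⟨g, fun hgQ => ?_, ?_⟩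
  · have h1 : Qp ∈ hV'.fromSpec ⁻¹ᵁ X.basicOpen g := hyg
    rw [hV'.fromSpec_preimage_basicOpen] at h1
    exact h1 hgQ
  have hleg : X.basicOpen g ≤ f ⁻¹ᵁ U := (X.basicOpen_le g).trans hV'U
  have het : Etale (f.resLE U (X.basicOpen g) hleg) := by
    haveI : Etale (f.resLE U (X.basicOpen g) hleg ≫ U.ι) := by
      rw [Scheme.Hom.resLE_comp_ι, ← X.homOfLE_ι hgD, Category.assoc]
      infer_instance
    exact Etale.of_comp _ U.ι
  haveI : IsAffine (X.basicOpen g) := hV'.basicOpen g
  haveI : IsAffine U := hU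
  have het' : (f.appLE U (X.basicOpen g) hleg).hom.Etale :=
    (RingHom.Etale.respectsIso.arrow_mk_iso_iff (arrowResLEAppIso f U (X.basicOpen g) hleg)).1
      ((HasRingHomProperty.iff_of_isAffine (P := @Etale)).1 het)
  letI : Algebra Γ(Y, U) Γ(X, X.basicOpen g) := (f.appLE U (X.basicOpen g) hleg).hom.toAlgebra
  haveI : IsScalarTower Γ(Y, U) Γ(X, V') Γ(X, X.basicOpen g) := IsScalarTower.of_algebraMap_eq' (by
    rw [RingHom.algebraMap_toAlgebra, RingHom.algebraMap_toAlgebra]
    exact congrArg CommRingCat.Hom.hom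
      (Scheme.Hom.appLE_map f hV'U (homOfLE (X.basicOpen_le g)).op).symm)
  haveI := hV'.isLocalization_basicOpen g
  haveI : Algebra.Etale Γ(Y, U) Γ(X, X.basicOpen g) := het'
  exact Algebra.Etale.of_equiv
    ((IsLocalization.algEquiv (Submonoid.powers g) Γ(X, X.basicOpen g) (Localization.Away g)).restrictScalars Γ(Y, U))

end Groth.Agent.NeronHD
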