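import Groth.Prelude.Def_CInt
import Mathlib.AlgebraicGeometry.Morphisms.Etale
import Mathlib.RingTheory.Smooth.StandardSmoothCotangent

/-! A smooth morphism which is étale on a dense open is étale. -/

set_option autoImplicit false

universe u

open CategoryTheory AlgebraicGeometry

namespace Groth.Agent.NeronHD

theorem standardSmooth_zero_of_away {R S T : Type u} [CommRing R] [CommRing S] [CommRing T]
    [Algebra R S] [Algebra S T] [Algebra R T] [IsScalarTower R S T] [Algebra.IsStandardSmooth R S]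
    (g : S) [IsLocalization.Away g T] [Nontrivial T] [Algebra.FormallyUnramified R T] :
    Algebra.IsStandardSmoothOfRelativeDimension 0 R S := by
  obtain ⟨ι, σ, _, _, ⟨P⟩⟩ := ‹Algebra.IsStandardSmooth R S›
  haveI h1 : Algebra.IsStandardSmoothOfRelativeDimension P.dimension R S := ⟨⟨_, _, _, ‹_›, P, rfl⟩⟩
  haveI h2 : Algebra.IsStandardSmoothOfRelativeDimension 0 S T :=
    Algebra.IsStandardSmoothOfRelativeDimension.localization_away g
  haveI h3 : Algebra.IsStandardSmoothOfRelativeDimension (0 + P.dimension) R T :=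
    Algebra.IsStandardSmoothOfRelativeDimension.trans P.dimension 0 R S T
  have hr := Algebra.IsStandardSmoothOfRelativeDimension.rank_kaehlerDifferential (R := R) (S := T)
    (0 + P.dimension)
  rw [rank_subsingleton'] at hr
  have h0 : P.dimension = 0 := by
    have : ((0 + P.dimension : ℕ) : Cardinal) = 0 := hr.symm
    simpa using this
  rwa [h0] at h1

theorem etale_of_smooth_of_dense {X Y : Scheme.{u}} (f : X ⟶ Y) [Smooth f] (D : X.Opens)
    (hD : Dense (D : Set X)) [Etale (D.ι ≫ f)] : Etale f := by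
  rw [Etale.iff_smoothOfRelativeDimension_zero]
  constructor
  intro x
  obtain ⟨W, hW, U, hU, hxU, hle, hstd⟩ := Smooth.exists_isStandardSmooth f x
  refine ⟨W, hW, U, hU, hxU, hle, ?_⟩
  obtain ⟨y, hyD, hyU⟩ := hD.exists_mem_open U.2 ⟨x, hxU⟩
  obtain ⟨g, hgD, hyg⟩ := hU.exists_basicOpen_le (V := D) ⟨y, hyD⟩ hyU
  have hle' : X.basicOpen g ≤ f ⁻¹ᵁ W := (X.basicOpen_le g).trans hle
  have het : Etale (f.resLE W (X.basicOpen g) hle') := by
    haveI : Etale (f.resLE W (X.basicOpen g) hle' ≫ W.ι) := by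
      rw [Scheme.Hom.resLE_comp_ι, ← X.homOfLE_ι hgD, Category.assoc]
      infer_instance
    exact Etale.of_comp _ W.ι
  haveI : IsAffine (X.basicOpen g) := hU.basicOpen g
  haveI : IsAffine W := hW
  have het' : (f.appLE W (X.basicOpen g) hle').hom.Etale :=
    (RingHom.Etale.respectsIso.arrow_mk_iso_iff (arrowResLEAppIso f W (X.basicOpen g) hle')).1
      ((HasRingHomProperty.iff_of_isAffine (P := @Etale)).1 het)
  letI : Algebra Γ(Y, W) Γ(X, U) := (f.appLE W U hle).hom.toAlgebra
  letI : Algebra Γ(Y, W) Γ(X, X.basicOpen g) := (f.appLE W (X.basicOpen g) hle').hom.toAlgebra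
  haveI : IsScalarTower Γ(Y, W) Γ(X, U) Γ(X, X.basicOpen g) := IsScalarTower.of_algebraMap_eq' (by
    rw [RingHom.algebraMap_toAlgebra, RingHom.algebraMap_toAlgebra]
    exact congrArg CommRingCat.Hom.hom (Scheme.Hom.appLE_map f hle (homOfLE (X.basicOpen_le g)).op).symm)
  haveI := hU.isLocalization_basicOpen g
  haveI : Algebra.IsStandardSmooth Γ(Y, W) Γ(X, U) := hstd
  haveI : Algebra.Etale Γ(Y, W) Γ(X, X.basicOpen g) := het'
  haveI : Nonempty (X.basicOpen g) := ⟨⟨y, hyg⟩⟩
  exact standardSmooth_zero_of_away (T := Γ(X, X.basicOpen g)) g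

end Groth.Agent.NeronHD
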