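import Groth.Agent.NeronHD.FiniteExt
import Groth.Agent.EtNormal.Basic
import Groth.Agent.SmoothNormal.Basic
import Groth.Agent.AlgSpCov.SchemeSourceLocal
import Groth.Agent.EtPoint.Basic
import Mathlib.AlgebraicGeometry.Morphisms.QuasiFinite

/-! Sections over étale neighbourhoods of a finite normal cover land in the smooth locus. -/

set_option autoImplicit false

universe u

open CategoryTheory CategoryTheory.Limits AlgebraicGeometry TopologicalSpace Topology

namespace Groth.Agent.NeronHD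

theorem mem_smoothLocus_of_etale_section {S T U : Scheme.{u}} [IsLocallyNoetherian S] (π : T ⟶ S)
    [IsFinite π] [LocallyOfFinitePresentation π] (hT : Pi1.IsNormalScheme T) (p : U ⟶ S) [Etale p]
    (s : U ⟶ T) (hs : s ≫ π = p) (u : U) : s u ∈ π.smoothLocus := by
  let fT := pullback.fst π p
  let sd := pullback.snd π p
  haveI : IsLocallyNoetherian U := LocallyOfFiniteType.isLocallyNoetherian p
  haveI : IsLocallyNoetherian (pullback π p) := LocallyOfFiniteType.isLocallyNoetherian sd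
  let σ : U ⟶ pullback π p := pullback.lift s (𝟙 U) (by simp [hs])
  have hσd : σ ≫ sd = 𝟙 U := pullback.lift_snd _ _ _
  have hσf : σ ≫ fT = s := pullback.lift_fst _ _ _
  haveI : IsClosedImmersion (σ ≫ sd) := by rw [hσd]; infer_instance
  haveI : IsClosedImmersion σ := IsClosedImmersion.of_comp σ sd
  obtain ⟨V, hwV, hVint⟩ := exists_isIntegral_nhd (EtNormal.isNormalScheme_of_etale fT hT) (σ u)
  haveI := hVint
  let η : ↥(pullback π p) := V.ι (genericPoint ↥(V : Scheme.{u}))
  have hηV : ∀ w ∈ V, η ⤳ w := fun w hw =>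
    (genericPoint_specializes (α := ↥(V : Scheme.{u})) ⟨w, hw⟩).map V.ι.continuous
  have hC := irreducibleComponent_mem_irreducibleComponents u
  obtain ⟨ζ, hζ⟩ := QuasiSober.sober hC.1 (isClosed_of_mem_irreducibleComponents _ hC)
  have hζV : σ ζ ∈ V := ((hζ.specializes mem_irreducibleComponent).map σ.continuous).mem_open V.2 hwV
  have hsdσ : ∀ v, sd (σ v) = v := fun v => by rw [← Scheme.Hom.comp_apply, hσd]; rfl
  have hsd : sd η = ζ := by
    have h1 : sd η ⤳ ζ := hsdσ ζ ▸ (hηV _ hζV).map sd.continuous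
    have h2 : IsGenericPoint (sd η) (closure {sd η}) := rfl
    have hle : irreducibleComponent u ⊆ closure {sd η} := by
      rw [← show closure {ζ} = irreducibleComponent u from hζ]
      exact h1.closure_subset
    have := hC.2 isIrreducible_singleton.closure hle
    exact (h1.antisymm (hζ.specializes (this (subset_closure rfl)))).eq
  have hηζ : η = σ ζ := by
    have hd := sd.isDiscrete_preimage_singleton ζ
    haveI : DiscreteTopology ↥(sd ⁻¹' {ζ}) := hd.to_subtype
    have : (⟨η, hsd⟩ : ↥(sd ⁻¹' {ζ})) ⤳ ⟨σ ζ, hsdσ ζ⟩ := (subtype_specializes_iff _ _).2 (hηV _ hζV)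
    exact congrArg Subtype.val this.eq
  have hVsub : (V : Set ↥(pullback π p)) ⊆ Set.range σ := fun w hw =>
    (hηV w hw).mem_closed σ.isClosedEmbedding.isClosed_range ⟨ζ, hηζ.symm⟩
  haveI : IsClosedImmersion (σ ∣_ V) := IsZariskiLocalAtTarget.restrict (P := @IsClosedImmersion) ‹_› V
  haveI : Surjective (σ ∣_ V) := ⟨fun w => by
    obtain ⟨v, hv⟩ := hVsub w.2
    exact ⟨⟨v, show σ v ∈ V by rw [hv]; exact w.2⟩, Subtype.ext ((morphismRestrict_base_coe σ V _).trans hv)⟩⟩
  haveI : IsIso (σ ∣_ V) := isIso_of_isClosedImmersion_of_surjective _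
  have hVd : V.ι ≫ sd = inv (σ ∣_ V) ≫ (σ ⁻¹ᵁ V).ι := by
    rw [IsIso.eq_inv_comp, morphismRestrict_ι_assoc, hσd, Category.comp_id]
  let q := V.ι ≫ fT
  haveI : Etale (q ≫ π) := by
    rw [Category.assoc, pullback.condition, reassoc_of% hVd]
    infer_instance
  let O : T.Opens := ⟨Set.range q, q.isOpenMap.isOpen_range⟩
  let q' : (V : Scheme.{u}) ⟶ O := IsOpenImmersion.lift O.ι q (by rw [Scheme.Opens.range_ι]; rfl)
  have hq' : q' ≫ O.ι = q := IsOpenImmersion.lift_fac _ _ _
  haveI : Surjective q' := ⟨fun o => by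
    obtain ⟨v, hv⟩ := o.2
    refine ⟨v, O.ι.isOpenEmbedding.injective ?_⟩
    rw [← Scheme.Hom.comp_apply, hq']
    exact hv⟩
  haveI : Etale (q' ≫ O.ι) := by rw [hq']; infer_instance
  haveI : Etale q' := Etale.of_comp q' O.ι
  have hO : Etale (O.ι ≫ π) :=
    AlgSpCov.etale_of_comp_smooth q' (O.ι ≫ π) (by rw [reassoc_of% hq']; infer_instance)
  have hsu : s u ∈ O := ⟨⟨σ u, hwV⟩, by
    rw [← hσf, Scheme.Hom.comp_apply, Scheme.Hom.comp_apply]; rfl⟩
  have : (⟨s u, hsu⟩ : O) ∈ O.ι ⁻¹ᵁ π.smoothLocus := by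
    rw [Scheme.Hom.preimage_smoothLocus_eq, Scheme.Hom.smoothLocus_eq_top]
    trivial
  exact this

end Groth.Agent.NeronHD
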