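import Groth.Agent.NeronHD.SmoothLocus
import Groth.Agent.NeronHD.EtaleDense
import Groth.Agent.S13432
import Groth.Agent.S4997
import Groth.Agent.S1414
import Groth.Agent.NormNormal.Rel
import Groth.Agent.NormGen.Basic
import Groth.Agent.Nagata.NormalizationFinite
import Groth.Agent.NeronLib.MapBij
import Groth.Agent.SchDense.Dense
import Groth.Agent.AlgSp.DenseFlat
import Mathlib.AlgebraicGeometry.ZariskisMainTheorem

/-! Néron models of étale schemes over a normal base in characteristic zero. -/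

set_option autoImplicit false

universe u

open CategoryTheory CategoryTheory.Limits AlgebraicGeometry TopologicalSpace Topology
open scoped TensorProduct

namespace Groth.Agent.NeronHD

theorem finite_integralClosure_etale {A B : Type u} [CommRing A] [IsDomain A] [IsNoetherianRing A]
    [IsIntegrallyClosed A] [CharZero A] [CommRing B] [Algebra A B] [Algebra.Etale A B] [IsReduced B] :
    Module.Finite A (integralClosure A B) := by
  haveI : IsNoetherianRing B := Algebra.FiniteType.isNoetherianRing A B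
  haveI : Finite ↥(minimalPrimes B) := (minimalPrimes.finite_of_isNoetherianRing B).to_subtype
  haveI : ∀ P : ↥(minimalPrimes B), P.1.IsPrime := fun P => P.2.1.1
  refine Nagata.NormalizationFinite.finite_integralClosure_of_pi
    (fun P : ↥(minimalPrimes B) => P.1.ResidueField) (fun P => IsScalarTower.toAlgHom A B _) (fun P => ?_)
    (fun b hb => ?_)
  · let K := FractionRing A
    have hinj : Function.Injective (algebraMap A P.1.ResidueField) := by
      rw [injective_iff_map_eq_zero]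
      intro a ha
      by_contra ha0
      rw [IsScalarTower.algebraMap_apply A B, Ideal.algebraMap_residueField_eq_zero] at ha
      have hgd : Algebra.HasGoingDown A B := inferInstance
      exact notMem_nonZeroDivisors_of_mem_mem_minimalPrimes ha P.2 (by
        have hr : IsSMulRegular B a :=
          Module.Flat.isSMulRegular_of_nonZeroDivisors (mem_nonZeroDivisors_iff_ne_zero.2 ha0)
        rw [mem_nonZeroDivisors_iff_right]
        intro x hx
        exact hr (by simp only [Algebra.smul_def]; rw [mul_comm] at hx; simpa using hx))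
    haveI : FaithfulSMul A P.1.ResidueField := (faithfulSMul_iff_algebraMap_injective _ _).2 hinj
    letI : Algebra K P.1.ResidueField := FractionRing.liftAlgebra A _
    haveI : IsScalarTower A K P.1.ResidueField := FractionRing.isScalarTower_liftAlgebra _ _
    haveI : CharZero K := charZero_of_injective_ringHom (IsFractionRing.injective A K)
    haveI : Module.Finite K (K ⊗[A] B) := Algebra.FormallyUnramified.finite_of_free K (K ⊗[A] B)
    let Φ : K ⊗[A] B →ₐ[K] P.1.ResidueField :=
      Algebra.TensorProduct.lift (Algebra.ofId K _) (IsScalarTower.toAlgHom A B _) fun _ _ => .all _ _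
    have hΦB : ∀ b : B, algebraMap B P.1.ResidueField b ∈ Φ.range := fun b =>
      ⟨(1 : K) ⊗ₜ[A] b, by simp [Φ]⟩
    haveI : Module.Finite K Φ.range := Module.Finite.of_surjective Φ.rangeRestrict.toLinearMap
      Φ.rangeRestrict_surjective
    have hf : IsField Φ.range := isField_of_isIntegral_of_isField' (Field.toIsField K)
    haveI : Module.Finite K P.1.ResidueField := by
      refine Module.Finite.of_surjective Φ.range.val.toLinearMap fun y => ?_
      obtain ⟨a, b, hb, rfl⟩ := IsFractionRing.div_surjective (A := B ⧸ P.1) y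
      obtain ⟨a, rfl⟩ := Ideal.Quotient.mk_surjective a
      obtain ⟨b, rfl⟩ := Ideal.Quotient.mk_surjective b
      have hb0 : algebraMap B P.1.ResidueField b ≠ 0 :=
        IsFractionRing.to_map_ne_zero_of_mem_nonZeroDivisors (R := B ⧸ P.1) hb
      obtain ⟨c, hc⟩ := hf.mul_inv_cancel (a := ⟨_, hΦB b⟩) (fun h => hb0 (congrArg Subtype.val h))
      refine ⟨⟨_, hΦB a⟩ * c, ?_⟩
      show algebraMap B P.1.ResidueField a * (c : P.1.ResidueField) = _
      have hc' : algebraMap B P.1.ResidueField b * (c : P.1.ResidueField) = 1 := congrArg Subtype.val hc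
      rw [show algebraMap (B ⧸ P.1) P.1.ResidueField (Ideal.Quotient.mk _ a) = algebraMap B P.1.ResidueField a from rfl,
        show algebraMap (B ⧸ P.1) P.1.ResidueField (Ideal.Quotient.mk _ b) = algebraMap B P.1.ResidueField b from rfl,
        eq_div_iff hb0, mul_assoc, mul_comm (c : P.1.ResidueField), hc', mul_one]
    haveI : Algebra.IsSeparable K P.1.ResidueField := inferInstance
    exact IsIntegralClosure.finite A K P.1.ResidueField (integralClosure A P.1.ResidueField)
  · have h : b ∈ sInf (minimalPrimes B) := Submodule.mem_sInf.2 fun P hP => by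
      haveI := hP.1.1
      exact Ideal.algebraMap_residueField_eq_zero.1 (hb ⟨P, hP⟩)
    have h' : b ∈ (⊥ : Ideal B).radical := Ideal.sInf_minimalPrimes (I := (⊥ : Ideal B)) ▸ h
    obtain ⟨n, hn⟩ := h'
    exact eq_zero_of_pow_eq_zero (Ideal.mem_bot.1 hn)

theorem finite_integralClosure_etale_preimage {Y S : Scheme.{u}} (f : Y ⟶ S) [Etale f] [QuasiCompact f]
    [IsReduced Y] {V : S.Opens} (hV : IsAffineOpen V) [IsDomain Γ(S, V)] [IsNoetherianRing Γ(S, V)]
    [IsIntegrallyClosed Γ(S, V)] [CharZero Γ(S, V)] :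
    letI := (f.app V).hom.toAlgebra
    Module.Finite Γ(S, V) (integralClosure Γ(S, V) Γ(Y, f ⁻¹ᵁ V)) := by
  letI := (f.app V).hom.toAlgebra
  obtain ⟨s, hsfin, hs⟩ := isCompact_iff_finite_and_eq_biUnion_affineOpens.1 (f.isCompact_preimage (U := V) hV.isCompact)
  haveI := hsfin.to_subtype
  have hle : ∀ W : s, W.1.1 ≤ f ⁻¹ᵁ V := fun W => hs ▸ le_iSup₂ (f := fun (i : Y.affineOpens) (_ : i ∈ s) => i.1) W.1 W.2
  letI : ∀ W : s, Algebra Γ(S, V) Γ(Y, W.1.1) := fun W => (f.appLE V W.1.1 (hle W)).hom.toAlgebra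
  refine Nagata.NormalizationFinite.finite_integralClosure_of_pi (fun W : s => Γ(Y, W.1.1))
    (fun W => { (Y.presheaf.map (homOfLE (hle W)).op).hom with commutes' := fun r => rfl }) (fun W => ?_)
    (fun b hb => ?_)
  · haveI : Algebra.Etale Γ(S, V) Γ(Y, W.1.1) :=
      RingHom.etale_algebraMap.1 (HasRingHomProperty.appLE @Etale f ‹_› ⟨V, hV⟩ W.1 (hle W))
    exact finite_integralClosure_etale
  · apply TopCat.Presheaf.section_ext Y.sheaf
    intro x hx
    obtain ⟨W, hx'⟩ := Opens.mem_iSup.1 (hs.le hx)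
    obtain ⟨hW, hxW⟩ := Opens.mem_iSup.1 hx'
    have h1 : Y.presheaf.map (homOfLE (hle ⟨W, hW⟩)).op b = 0 := hb ⟨W, hW⟩
    have := congrArg (Y.presheaf.germ W.1 x hxW) h1
    erw [TopCat.Presheaf.germ_res_apply] at this
    rw [map_zero] at this
    exact this.trans (map_zero _).symm

variable {k : Type u} [Field k] [CharZero k] {S : Scheme.{u}} (σ : S ⟶ Spec (CommRingCat.of k))
  [IsNoetherian S] (hS : Pi1.IsNormalScheme S)

include σ hS in
/-- The normalisation of `S` in a quasi-compact separated étale scheme over an open is finite. -/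
theorem isFinite_fromNormalization_etale {Y : Scheme.{u}} (f : Y ⟶ S) [Etale f] [IsSeparated f]
    [QuasiCompact f] : IsFinite f.fromNormalization := by
  have hcov : ∀ s : S, ∃ U : S.affineOpens, s ∈ U.1 ∧ IsIntegral (U.1 : Scheme.{u}) := fun s => by
    obtain ⟨V, hsV, hV⟩ := exists_isIntegral_nhd hS s
    obtain ⟨U, hU, hsU, hUV⟩ := exists_isAffineOpen_mem_and_subset (x := s) (U := V) hsV
    refine ⟨⟨U, hU⟩, hsU, ?_⟩
    haveI := hV
    haveI : Nonempty U := ⟨⟨s, hsU⟩⟩
    exact isIntegral_of_isOpenImmersion (S.homOfLE hUV)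
  choose U hsU hU using hcov
  refine (IsZariskiLocalAtTarget.iff_of_iSup_eq_top (P := @IsFinite) (fun s => (U s).1)
    (eq_top_iff.2 fun s _ => Opens.mem_iSup.2 ⟨s, hsU s⟩)).2 fun s => ?_
  haveI : IsAffine (U s).1 := (U s).2
  refine (HasAffineProperty.iff_of_isAffine (P := @IsFinite)).2
    ⟨(U s).2.preimage f.fromNormalization, ?_⟩
  rw [← Scheme.Hom.resLE_eq_morphismRestrict]
  refine (RingHom.finite_respectsIso.arrow_mk_iso_iff (arrowResLEAppIso f.fromNormalization _ _ _)).2 ?_
  rw [← Scheme.Hom.app_eq_appLE]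
  haveI := hU s
  have hV : IsAffineOpen (U s).1 := (U s).2
  haveI : IsNoetherianRing Γ(S, (U s).1) := IsLocallyNoetherian.component_noetherian ⟨_, hV⟩
  let e : Γ(((U s).1 : Scheme.{u}), ⊤) ≃+* Γ(S, (U s).1) := (U s).1.topIso.commRingCatIsoToRingEquiv
  haveI : Nonempty (⊤ : ((U s).1 : Scheme.{u}).Opens) := ⟨⟨⟨s, hsU s⟩, trivial⟩⟩
  haveI hdom : IsDomain Γ(S, (U s).1) := MulEquiv.isDomain Γ(((U s).1 : Scheme.{u}), ⊤) e.symm.toMulEquiv
  haveI : IsIntegrallyClosed Γ(S, (U s).1) := by
    haveI := Groth.Agent.NormGen.Basic.isIntegrallyClosed_sections (Y := ((U s).1 : Scheme.{u}))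
      (fun y => (isNormalScheme_opens hS _ y).2) ⊤
    exact IsIntegrallyClosed.of_equiv e
  haveI : CharZero Γ(S, (U s).1) :=
    charZero_of_injective_ringHom ((Scheme.ΓSpecIso (CommRingCat.of k)).inv ≫ σ.appTop ≫
      S.presheaf.map (homOfLE le_top).op).hom.injective
  letI := (f.app (U s).1).hom.toAlgebra
  haveI : IsReduced Y := isReduced_of_normal (EtNormal.isNormalScheme_of_etale f hS)
  rw [Scheme.Hom.fromNormalization_app f hV, CommRingCat.hom_comp, CommRingCat.hom_ofHom]
  refine RingHom.Finite.comp ?_ (RingHom.finite_algebraMap.mpr ?_)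
  · exact RingHom.Finite.of_surjective _
      (f.normalizationObjIso hV).commRingCatIsoToRingEquiv.symm.surjective
  exact finite_integralClosure_etale_preimage f hV

include hS in
/-- The relative normalisation of `S` in a normal Noetherian scheme is normal. -/
theorem isNormalScheme_normalization {Y : Scheme.{u}} (f : Y ⟶ S) [Etale f] [QuasiCompact f]
    [QuasiSeparated f] : Pi1.IsNormalScheme f.normalization := by
  haveI : IsLocallyNoetherian Y := LocallyOfFiniteType.isLocallyNoetherian f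
  haveI : CompactSpace Y := QuasiCompact.compactSpace_of_compactSpace f
  haveI : IsNoetherian Y := {}
  have hfin : (irreducibleComponents Y).Finite := NoetherianSpace.finite_irreducibleComponents
  have hlf : LocallyFinite (fun Z : ↥(irreducibleComponents Y) => (Z : Set Y)) := by
    haveI := hfin.to_subtype
    exact locallyFinite_of_finite _
  intro x'
  have hx' : x' ∈ ⋃ Z ∈ irreducibleComponents Y, closure (f.toNormalization '' Z) := by
    have h1 : x' ∈ closure (f.toNormalization '' ⋃₀ irreducibleComponents Y) := by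
      rw [sUnion_irreducibleComponents, Set.image_univ]
      exact f.toNormalization.denseRange x'
    rwa [Set.sUnion_eq_biUnion, Set.image_iUnion₂, hfin.closure_biUnion] at h1
  obtain ⟨Z, hZ, hxZ⟩ := Set.mem_iUnion₂.1 hx'
  obtain ⟨η, hη⟩ := QuasiSober.sober hZ.1 (isClosed_of_mem_irreducibleComponents _ hZ)
  have hsp : f.toNormalization η ⤳ x' := by
    refine specializes_iff_mem_closure.2 (closure_minimal ?_ isClosed_closure hxZ)
    rintro _ ⟨y, hy, rfl⟩
    exact specializes_iff_mem_closure.1 ((hη.specializes hy).map f.toNormalization.continuous)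
  exact (NormNormal.normal_and_eq f (EtNormal.isNormalScheme_of_etale f hS) hlf
    (η := η) (by rw [show closure {η} = Z from hη]; exact hZ) x' hsp).1

include σ hS in
theorem exists_neron (S₀ : S.Opens) (hS₀ : CInt.IsSchematicallyDense S₀)
    (N₀ : Over (S₀ : Scheme.{u})) [Etale N₀.hom] [IsSeparated N₀.hom] [QuasiCompact N₀.hom] :
    ∃ (N : Over S) (_ : (Over.pullback S₀.ι).obj N ≅ N₀), Etale N.hom ∧ IsSeparated N.hom ∧
      QuasiCompact N.hom ∧ ∀ Z : Over S, Smooth Z.hom →
        Function.Bijective (fun g : Z ⟶ N => (Over.pullback S₀.ι).map g) := by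
  let f := N₀.hom ≫ S₀.ι
  haveI : LocallyQuasiFinite f := ((S4997.result f).1 inferInstance).2
  let T := f.normalization
  let π : T ⟶ S := f.fromNormalization
  haveI : IsFinite π := isFinite_fromNormalization_etale σ hS f
  haveI : LocallyOfFinitePresentation π := inferInstance
  haveI : IsLocallyNoetherian T := LocallyOfFiniteType.isLocallyNoetherian π
  haveI : CompactSpace T := QuasiCompact.compactSpace_of_compactSpace π
  haveI : IsNoetherian T := {}
  have hT : Pi1.IsNormalScheme T := isNormalScheme_normalization hS f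
  let j := f.toNormalization
  have hj : j ≫ π = f := f.toNormalization_fromNormalization
  let SL := π.smoothLocus
  let C₀ : Set T := (π ⁻¹ᵁ S₀ : T.Opens) \ Set.range j
  let O : T.Opens := SL ⊓ ⟨(closure C₀)ᶜ, isClosed_closure.isOpen_compl⟩
  have hjO : ∀ y, j y ∈ O := fun y => by
    refine ⟨?_, fun h => ?_⟩
    · show y ∈ j ⁻¹ᵁ π.smoothLocus
      haveI : Smooth (j ≫ π) := by rw [hj]; infer_instance
      rw [Scheme.Hom.preimage_smoothLocus_eq, Scheme.Hom.smoothLocus_eq_top]
      trivial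
    · obtain ⟨_, ⟨y', rfl⟩, hy'⟩ := mem_closure_iff.1 h _ j.isOpenEmbedding.isOpen_range ⟨y, rfl⟩
      exact hy'.2 ⟨y', rfl⟩
  let jO : N₀.left ⟶ O := IsOpenImmersion.lift O.ι j (by
    rintro _ ⟨y, rfl⟩; rw [Scheme.Opens.range_ι]; exact hjO y)
  have hjOι : jO ≫ O.ι = j := IsOpenImmersion.lift_fac _ _ _
  haveI : IsOpenImmersion (jO ≫ O.ι) := by rw [hjOι]; infer_instance
  haveI : IsOpenImmersion jO := IsOpenImmersion.of_comp jO O.ι
  have hjOπ : jO ≫ O.ι ≫ π = N₀.hom ≫ S₀.ι := by rw [reassoc_of% hjOι, hj]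
  have sq : IsPullback N₀.hom jO S₀.ι (O.ι ≫ π) := by
    refine IsOpenImmersion.isPullback N₀.hom jO S₀.ι (O.ι ≫ π) hjOπ (Opens.ext (Set.ext fun o => ?_))
    rw [Scheme.Opens.opensRange_ι]
    refine ⟨fun ho => ?_, ?_⟩
    · have h1 : O.ι o ∈ Set.range j := by
        by_contra hn
        exact o.2.2 (subset_closure ⟨ho, hn⟩)
      obtain ⟨y, hy⟩ := h1
      refine ⟨y, O.ι.isOpenEmbedding.injective ?_⟩
      rw [← Scheme.Hom.comp_apply, hjOι, hy]
    · rintro ⟨y, rfl⟩
      show (O.ι ≫ π) (jO y) ∈ S₀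
      rw [← Scheme.Hom.comp_apply, hjOπ]
      exact (N₀.hom y).2
  haveI hOsm : Smooth (O.ι ≫ π) := by
    rw [← Scheme.Hom.smoothLocus_eq_top_iff, ← Scheme.Hom.preimage_smoothLocus_eq, eq_top_iff]
    exact fun o _ => o.2.1
  haveI hOet : Etale (O.ι ≫ π) := by
    refine (S4997.result _).2 ⟨hOsm, inferInstance⟩
  have hSLsm : Smooth (SL.ι ≫ π) := by
    rw [← Scheme.Hom.smoothLocus_eq_top_iff, ← Scheme.Hom.preimage_smoothLocus_eq,
      Scheme.Opens.ι_preimage_self]
  haveI hSLet : Etale (SL.ι ≫ π) := (S4997.result _).2 ⟨hSLsm, inferInstance⟩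
  refine ⟨Over.mk (O.ι ≫ π), Over.isoMk sq.flip.isoPullback.symm
      (sq.flip.isoPullback_inv_snd), hOet, inferInstanceAs (IsSeparated (O.ι ≫ π)),
    inferInstanceAs (QuasiCompact (O.ι ≫ π)), fun Z hZ => ?_⟩
  haveI := hZ
  have hU := Groth.Agent.AlgSp.DenseFlat.preimage Z.hom S₀ hS₀
  have key := S13432.result σ hS S₀ hS₀ π hT Z hZ
  let sqZ := (isPullback_morphismRestrict Z.hom S₀).flip
  rw [NeronLib.MapBij.bijective_iff S₀.ι _ _ sqZ] at key ⊢
  let i : (O : Scheme.{u}) ⟶ SL := T.homOfLE inf_le_left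
  have hi : i ≫ SL.ι = O.ι := T.homOfLE_ι _
  intro h hh
  obtain ⟨g, hg, hgu⟩ := key (h ≫ i) (by
    show (h ≫ i) ≫ SL.ι ≫ π = _
    rw [Category.assoc, reassoc_of% hi]
    exact hh)
  have hgw : g.left ≫ SL.ι ≫ π = Z.hom := Over.w g
  let gl : Z.left ⟶ (SL : Scheme.{u}) := g.left
  haveI : Smooth (gl ≫ SL.ι ≫ π) := by rw [show gl ≫ SL.ι ≫ π = Z.hom from hgw]; exact hZ
  haveI : Smooth gl := S1414.result gl (SL.ι ≫ π)
  have hmem : ∀ z, (gl ≫ SL.ι) z ∈ O := fun z => by
    refine ⟨(gl z).2, fun hz => ?_⟩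
    obtain ⟨_, ⟨z', rfl⟩, hz'⟩ := mem_closure_iff.1 hz _
      ((SL.ι.isOpenEmbedding.isOpenMap.comp gl.isOpenMap).isOpen_range) ⟨z, rfl⟩
    have hz0 : z' ∈ Z.hom ⁻¹ᵁ S₀ := by
      show Z.hom z' ∈ S₀
      rw [← hgw]
      exact hz'.1
    let z₀ : ↥(Z.hom ⁻¹ᵁ S₀) := ⟨z', hz0⟩
    have e : ((Z.hom ⁻¹ᵁ S₀).ι ≫ gl) ≫ SL.ι = (h ≫ i) ≫ SL.ι := congrArg (· ≫ SL.ι) hg
    rw [Category.assoc, Category.assoc, hi] at e
    have e' : SL.ι (gl z') = O.ι (h z₀) := congr($e z₀)
    apply hz'.2
    have hO0 : π (O.ι (h z₀)) ∈ S₀ := by rw [← e']; exact hz'.1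
    show SL.ι (gl z') ∈ Set.range j
    rw [e']
    by_contra hn
    exact (h z₀).2.2 (subset_closure ⟨hO0, hn⟩)
  let gO : Z.left ⟶ O := IsOpenImmersion.lift O.ι (gl ≫ SL.ι) (by
    rintro _ ⟨z, rfl⟩; rw [Scheme.Opens.range_ι]; exact hmem z)
  have hgO : gO ≫ O.ι = gl ≫ SL.ι := IsOpenImmersion.lift_fac _ _ _
  refine ⟨Over.homMk gO (by
    show gO ≫ O.ι ≫ π = Z.hom
    rw [reassoc_of% hgO]; exact hgw), ?_, fun b hb => ?_⟩
  · show (Z.hom ⁻¹ᵁ S₀).ι ≫ gO = h
    rw [← cancel_mono O.ι, Category.assoc, hgO, ← hi, ← Category.assoc, ← Category.assoc]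
    exact congrArg (· ≫ SL.ι) hg
  · let bl : Z.left ⟶ (O : Scheme.{u}) := b.left
    have hbw : bl ≫ O.ι ≫ π = Z.hom := Over.w b
    have := hgu (Over.homMk (bl ≫ i) (by
      show (bl ≫ i) ≫ SL.ι ≫ π = Z.hom
      rw [Category.assoc, reassoc_of% hi, hbw])) (by
      show _ ≫ bl ≫ i = h ≫ i
      rw [← Category.assoc]
      exact congrArg (· ≫ i) hb)
    ext1
    show bl = gO
    rw [← cancel_mono O.ι, hgO, ← hi, ← Category.assoc]
    exact congrArg (· ≫ SL.ι) (congrArg CommaMorphism.left this)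

end Groth.Agent.NeronHD
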