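import Groth.Agent.NormalSection.Basic
import Groth.Agent.S4997
import Groth.Prelude.Def_Pi1
import Mathlib.AlgebraicGeometry.AlgClosed.Basic
import Mathlib.AlgebraicGeometry.ZariskisMainTheorem
import Mathlib.AlgebraicGeometry.Morphisms.FlatMono
import Mathlib.FieldTheory.Perfect

/-! Morphisms of varieties injective on rational points. -/

set_option autoImplicit false

universe u

open CategoryTheory CategoryTheory.Limits AlgebraicGeometry TopologicalSpace

namespace Groth.Agent.NeronHD

theorem eq_top_of_closedPoints {X : Scheme.{u}} [JacobsonSpace X] (U : X.Opens)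
    (h : closedPoints X ⊆ U) : U = ⊤ := by
  refine top_le_iff.1 fun x _ => by_contra fun hx => ?_
  obtain ⟨y, hy, hy'⟩ := nonempty_inter_closedPoints (Z := ((U : Set X))ᶜ) ⟨x, hx⟩
    U.2.isClosed_compl.isLocallyClosed
  exact hy (h hy')

theorem isOpenImmersion_of_injective_on_points {k : Type u} [Field k] [IsAlgClosed k] [CharZero k]
    {X Y : Scheme.{u}} (sX : X ⟶ Spec (CommRingCat.of k)) (sY : Y ⟶ Spec (CommRingCat.of k))
    [IsIntegral X] [IsIntegral Y] [IsSeparated sX] [IsSeparated sY]
    [LocallyOfFiniteType sX] [QuasiCompact sX] [LocallyOfFiniteType sY] [QuasiCompact sY]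
    (hY : Pi1.IsNormalScheme Y) (f : X ⟶ Y) (hf : f ≫ sY = sX) [IsDominant f]
    (hinj : ∀ a b : Spec (CommRingCat.of k) ⟶ X, a ≫ sX = 𝟙 _ → b ≫ sX = 𝟙 _ → a ≫ f = b ≫ f → a = b) :
    IsOpenImmersion f := by
  subst hf
  haveI : LocallyOfFiniteType f := locallyOfFiniteType_of_comp f sY
  haveI : QuasiCompact f := QuasiCompact.of_comp f sY
  haveI : IsSeparated f := IsSeparated.of_comp f sY
  haveI : IsLocallyNoetherian Y := LocallyOfFiniteType.isLocallyNoetherian sY
  haveI : JacobsonSpace X := LocallyOfFiniteType.jacobsonSpace (f ≫ sY)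
  haveI : JacobsonSpace Y := LocallyOfFiniteType.jacobsonSpace sY
  have hinj' : ∀ x x' : X, IsClosed {x} → IsClosed {x'} → f x = f x' → x = x' := fun x x' hx hx' e => by
    let a := pointOfClosedPoint (f ≫ sY) x hx
    let b := pointOfClosedPoint (f ≫ sY) x' hx'
    have hab : a = b := by
      refine hinj a b (pointOfClosedPoint_comp _ _ _) (pointOfClosedPoint_comp _ _ _) ?_
      refine ext_of_apply_closedPoint_eq sY ?_ ?_ ?_
      · rw [Category.assoc]; exact pointOfClosedPoint_comp _ _ _
      · rw [Category.assoc]; exact pointOfClosedPoint_comp _ _ _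
      · simpa [a, b] using e
    have := congr($hab (IsLocalRing.closedPoint k))
    simpa [a, b] using this
  haveI : LocallyQuasiFinite f := by
    rw [← Scheme.Hom.quasiFiniteLocus_eq_top_iff]
    refine eq_top_of_closedPoints _ fun x hx => ?_
    have hfx : IsClosed {f x} := f.closePoints_subset_preimage_closedPoints hx
    have hfib : f ⁻¹' {f x} = {x} := by
      have hsub : f ⁻¹' {f x} ∩ closedPoints X ⊆ {x} := fun x' hx' => (hinj' x x' hx hx'.2 hx'.1.symm).symm
      have h1 := JacobsonSpace.closure_inter_closedPoints_eq_closure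
        (hfx.preimage f.continuous).isLocallyClosed
      rw [(hfx.preimage f.continuous).closure_eq] at h1
      refine Set.Subset.antisymm ?_ (Set.singleton_subset_iff.2 rfl)
      rw [← h1]
      exact closure_minimal hsub hx
    show f.QuasiFiniteAt x
    rw [Scheme.Hom.quasiFiniteAt_iff_isOpen_singleton_asFiber]
    haveI : Subsingleton ↥(f ⁻¹' {f x}) := by
      rw [hfib]; infer_instance
    haveI : Subsingleton ↥(f.fiber (f x)) := (f.fiberHomeo (f x)).injective.subsingleton
    exact isOpen_discrete _
  -- an open on which `f` is étale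
  have hgen : f (genericPoint X) = genericPoint Y := by
    have h := (genericPoint_spec X).image f.continuous
    rw [Set.image_univ, f.denseRange.closure_range] at h
    exact h.eq (genericPoint_spec Y)
  let V : X.Opens := f.smoothLocus
  have hξ : genericPoint X ∈ V := by
    rw [Scheme.Hom.mem_smoothLocus]
    haveI := LocallyOfFiniteType.stalkMap f (genericPoint X)
    algebraize [(f.stalkMap (genericPoint X)).hom]
    have hF : IsField (Y.presheaf.stalk (f (genericPoint X))) := by
      rw [hgen]; exact Field.toIsField Y.functionField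
    letI := hF.toField
    letI : Field (X.presheaf.stalk (genericPoint X)) := inferInstanceAs (Field X.functionField)
    haveI : CharZero (Y.presheaf.stalk (f (genericPoint X))) :=
      charZero_of_injective_ringHom ((Scheme.ΓSpecIso (CommRingCat.of k)).inv ≫ sY.appTop ≫
        Y.presheaf.germ ⊤ (f (genericPoint X)) trivial).hom.injective
    exact Algebra.FormallySmooth.of_perfectField
  haveI : Smooth (V.ι ≫ f) := by
    rw [← Scheme.Hom.smoothLocus_eq_top_iff, ← Scheme.Hom.preimage_smoothLocus_eq,
      Scheme.Opens.ι_preimage_self]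
  haveI : Etale (V.ι ≫ f) := (S4997.result _).2 ⟨inferInstance, inferInstance⟩
  let g := V.ι ≫ f
  haveI : LocallyOfFiniteType (pullback.fst g g ≫ g ≫ sY) := inferInstance
  haveI : JacobsonSpace ↥(pullback g g) := LocallyOfFiniteType.jacobsonSpace (pullback.fst g g ≫ g ≫ sY)
  haveI : IsOpenImmersion (pullback.diagonal g) := inferInstance
  haveI : IsIso (pullback.diagonal g) := by
    refine isIso_of_isOpenImmersion_of_opensRange_eq_top _ (eq_top_of_closedPoints _ fun z hz => ?_)
    let p := pointOfClosedPoint (pullback.fst g g ≫ g ≫ sY) z hz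
    have hp : p ≫ pullback.fst g g ≫ g ≫ sY = 𝟙 _ := pointOfClosedPoint_comp _ _ _
    have h12 : p ≫ pullback.fst g g = p ≫ pullback.snd g g := by
      rw [← cancel_mono V.ι]
      refine hinj _ _ ?_ ?_ ?_
      · rw [Category.assoc, Category.assoc]
        simpa [g] using hp
      · rw [Category.assoc, Category.assoc]
        rw [pullback.condition_assoc] at hp
        simpa [g] using hp
      · rw [Category.assoc, Category.assoc, Category.assoc, Category.assoc]
        exact congrArg (p ≫ ·) pullback.condition
    have hd : (p ≫ pullback.fst g g) ≫ pullback.diagonal g = p := by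
      apply pullback.hom_ext
      · simp
      · simp [h12]
    refine ⟨(p ≫ pullback.fst g g) (IsLocalRing.closedPoint k), ?_⟩
    rw [← Scheme.Hom.comp_apply, hd]
    exact pointOfClosedPoint_apply _ _ _ _
  haveI : Mono g := (pullback.isIso_diagonal_iff _).1 inferInstance
  haveI : IsOpenImmersion g := IsOpenImmersion.of_flat_of_mono g
  -- extend the inverse
  let π := f.fromNormalization
  let j := f.toNormalization
  let U : Y.Opens := g.opensRange
  have hU : Dense (U : Set Y) := U.2.dense ⟨genericPoint Y, ⟨genericPoint X, hξ⟩, hgen⟩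
  let r : (U : Scheme.{u}) ⟶ V := IsOpenImmersion.lift g U.ι (by rw [Scheme.Opens.range_ι]; rfl)
  have hr : r ≫ g = U.ι := IsOpenImmersion.lift_fac _ _ _
  have hjπ : j ≫ π = f := f.toNormalization_fromNormalization
  obtain ⟨s', hs', -⟩ := NormalSection.exists_extend π hY U hU (r ≫ V.ι ≫ j)
    (by rw [Category.assoc, Category.assoc, hjπ]; exact hr)
  haveI : IsIso π := NormalSection.isIso_of_section π s' hs'
  rw [← hjπ]
  infer_instance

end Groth.Agent.NeronHD
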