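import Groth.Agent.NormNormal.Basic
import Mathlib.AlgebraicGeometry.Morphisms.QuasiCompact

/-! Irreducible neighbourhoods at points with domain stalks. -/

set_option autoImplicit false

universe u

open CategoryTheory AlgebraicGeometry TopologicalSpace

namespace Groth.Agent.NeronHD

theorem exists_irreducible_nhd {X : Scheme.{u}} [IsLocallyNoetherian X] (x : X)
    [IsDomain (X.presheaf.stalk x)] : ∃ N : Set X, IsOpen N ∧ x ∈ N ∧ IsIrreducible N := by
  obtain ⟨W, hW, hxW, -⟩ := exists_isAffineOpen_mem_and_subset (x := x) (U := (⊤ : X.Opens)) trivial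
  let C := irreducibleComponent x
  let T := {Z ∈ irreducibleComponents X | (Z ∩ (W : Set X)).Nonempty} \ {C}
  have hfin : T.Finite := by
    haveI : IsAffine W := hW
    haveI : IsLocallyNoetherian (W : Scheme.{u}) := isLocallyNoetherian_of_isOpenImmersion W.ι
    haveI : IsNoetherian (W : Scheme.{u}) := {}
    refine (Set.Finite.subset ?_ Set.diff_subset)
    refine ((NoetherianSpace.finite_irreducibleComponents (α := ↥(W : Scheme.{u}))).image
      (fun Z => closure (W.ι '' Z))).subset fun Z hZ => ?_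
    refine ⟨W.ι ⁻¹' Z, preimage_mem_irreducibleComponents hZ.1 W.ι.isOpenEmbedding
      (by rw [Scheme.Opens.range_ι]; exact hZ.2), ?_⟩
    exact closure_image_preimage_of_isPreirreducible W.ι W.ι.isOpenEmbedding.isOpenMap Z
      (by obtain ⟨p, hp, hpW⟩ := hZ.2; exact ⟨⟨p, hpW⟩, hp⟩) hZ.1.1.2
      (isClosed_of_mem_irreducibleComponents Z hZ.1)
  have hxT : x ∉ ⋃ Z ∈ T, Z := by
    simp only [Set.mem_iUnion, not_exists]
    intro Z hZ hxZ
    have hC := irreducibleComponent_mem_irreducibleComponents x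
    obtain ⟨η, hη⟩ := QuasiSober.sober hC.1 (isClosed_of_mem_irreducibleComponents _ hC)
    obtain ⟨η', hη'⟩ := QuasiSober.sober hZ.1.1.1 (isClosed_of_mem_irreducibleComponents _ hZ.1.1)
    have e := NormNormal.generic_unique (z := x) (η := η) (η' := η')
      (by rw [show closure {η} = irreducibleComponent x from hη]; exact hC)
      (by rw [show closure {η'} = Z from hη']; exact hZ.1.1)
      (hη.specializes mem_irreducibleComponent) (hη'.specializes hxZ)
    exact hZ.2 (hη'.symm.trans (e ▸ hη))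
  refine ⟨(W : Set X) \ ⋃ Z ∈ T, Z, W.2.sdiff (hfin.isClosed_biUnion fun Z hZ =>
    isClosed_of_mem_irreducibleComponents Z hZ.1.1), ⟨hxW, hxT⟩, ?_⟩
  have hsub : (W : Set X) \ (⋃ Z ∈ T, Z) ⊆ C := fun y hy => by
    by_contra hyC
    exact hy.2 (Set.mem_biUnion ⟨⟨irreducibleComponent_mem_irreducibleComponents y,
      y, mem_irreducibleComponent, hy.1⟩, fun e => hyC (e ▸ mem_irreducibleComponent)⟩ mem_irreducibleComponent)
  refine ⟨⟨x, hxW, hxT⟩, ?_⟩
  exact ((irreducibleComponent_mem_irreducibleComponents x).1.2).open_subset (W.2.sdiff (hfin.isClosed_biUnion fun Z hZ =>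
    isClosed_of_mem_irreducibleComponents Z hZ.1.1)) hsub

theorem exists_generic_of_dominant {X S : Scheme.{u}} [IrreducibleSpace S] (f : X ⟶ S) [QuasiCompact f]
    [IsDominant f] : ∃ y, f y = genericPoint S := by
  obtain ⟨U, hU, hηU, -⟩ := exists_isAffineOpen_mem_and_subset (x := genericPoint S) (U := (⊤ : S.Opens)) trivial
  obtain ⟨s, hsfin, hs⟩ := isCompact_iff_finite_and_eq_biUnion_affineOpens.1
    (f.isCompact_preimage (U := U) hU.isCompact)
  have hcl : genericPoint S ∈ closure (f '' (f ⁻¹ᵁ U : X.Opens)) := by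
    have h := (U.2.inter_closure) ⟨hηU, f.denseRange (genericPoint S)⟩
    refine closure_mono ?_ h
    rintro _ ⟨hyU, y, rfl⟩
    exact ⟨y, hyU, rfl⟩
  have hu : f '' (f ⁻¹ᵁ U : X.Opens) ⊆ ⋃ W ∈ s, f '' (W : X.affineOpens).1 := by
    rintro _ ⟨y, hy, rfl⟩
    obtain ⟨W, hy'⟩ := Opens.mem_iSup.1 (hs.le hy)
    obtain ⟨hW, hyW⟩ := Opens.mem_iSup.1 hy'
    exact Set.mem_biUnion hW ⟨y, hyW, rfl⟩
  have h1 := closure_mono hu hcl
  rw [hsfin.closure_biUnion] at h1
  obtain ⟨W, hW, hηW⟩ := Set.mem_iUnion₂.1 h1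
  have hle : W.1 ≤ f ⁻¹ᵁ U :=
    hs ▸ le_iSup₂ (f := fun (i : X.affineOpens) (_ : i ∈ s) => i.1) W hW
  let φ := f.appLE U W.1 hle
  let η' := hU.primeIdealOf ⟨genericPoint S, hηU⟩
  have hη' : hU.fromSpec η' = genericPoint S := hU.fromSpec_primeIdealOf _
  have himg : f '' W.1 = hU.fromSpec '' Set.range (PrimeSpectrum.comap φ.hom) := by
    rw [← W.2.range_fromSpec, ← Set.range_comp, ← Set.range_comp]
    congr 1
    funext q
    exact (congr($(IsAffineOpen.SpecMap_appLE_fromSpec f hU W.2 hle) q)).symm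
  rw [himg, ← hη', ← Set.mem_preimage] at hηW
  erw [hU.fromSpec.isOpenEmbedding.isOpenMap.preimage_closure_eq_closure_preimage hU.fromSpec.continuous,
    hU.fromSpec.isOpenEmbedding.injective.preimage_image] at hηW
  have hgen : ∀ q, η' ⤳ q := fun q => by
    refine hU.fromSpec.isOpenEmbedding.isInducing.specializes_iff.1 ?_
    rw [hη']
    exact genericPoint_specializes _
  have hd : DenseRange (PrimeSpectrum.comap φ.hom) := fun q =>
    (hgen q).mem_closed isClosed_closure hηW
  have hmin : η'.asIdeal ∈ minimalPrimes Γ(S, U) := by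
    refine ⟨⟨η'.2, bot_le⟩, fun J hJ _ => ?_⟩
    exact (PrimeSpectrum.le_iff_specializes η' ⟨J, hJ.1⟩).2 (hgen _)
  obtain ⟨q, hq⟩ := (PrimeSpectrum.denseRange_comap_iff_minimalPrimes _).1 hd _ hmin
  refine ⟨W.2.fromSpec q, ?_⟩
  have hq' : PrimeSpectrum.comap φ.hom q = η' := hq.trans (PrimeSpectrum.ext rfl)
  refine Eq.trans ?_ (Eq.trans (congrArg hU.fromSpec hq') hη')
  exact (congr($(IsAffineOpen.SpecMap_appLE_fromSpec f hU W.2 hle) q)).symm

end Groth.Agent.NeronHD
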