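import Groth.Agent.NeronLib.MapBij
import Groth.Agent.S1414
import Mathlib.CategoryTheory.Monoidal.Cartesian.Grp
import Mathlib.CategoryTheory.Monoidal.Cartesian.Over
import Mathlib.AlgebraicGeometry.Restrict
import Mathlib.AlgebraicGeometry.Morphisms.Smooth

/-! # Formal properties of the mapping property along an open subscheme -/

set_option autoImplicit false

universe v u

open CategoryTheory CategoryTheory.Limits AlgebraicGeometry

namespace Groth.Agent.NeronHD

open NeronLib.MapBij

theorem bijective_map_iff {C D : Type*} [Category C] [Category D] {F G : C ⥤ D} (e : F ≅ G) (X Y : C) :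
    Function.Bijective (fun f : X ⟶ Y => F.map f) ↔ Function.Bijective (fun f : X ⟶ Y => G.map f) := by
  have key : (fun f : X ⟶ Y => G.map f) =
      (Iso.homCongr (e.app X) (e.app Y)) ∘ fun f : X ⟶ Y => F.map f := by
    funext f
    simp [Iso.homCongr]
  rw [key]
  exact ((Iso.homCongr (e.app X) (e.app Y)).comp_bijective _).symm

/-- Pullbacks along equal morphisms. -/
noncomputable def pullbackCongr {S U : Scheme.{u}} {f g : U ⟶ S} (h : f = g) :
    Over.pullback f ≅ Over.pullback g := by
  subst h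
  exact Iso.refl _

theorem bijective_of_isIso {S U : Scheme.{u}} (e : U ⟶ S) [IsIso e] (Z N : Over S) :
    Function.Bijective (fun g : Z ⟶ N => (Over.pullback e).map g) := by
  have sq : IsPullback (𝟙 Z.left) (Z.hom ≫ inv e) Z.hom e := IsPullback.of_horiz_isIso ⟨by simp⟩
  rw [bijective_iff e _ _ sq]
  intro h hh
  exact ⟨Over.homMk h (by simpa using hh), by simp, fun b hb => by
    ext1
    simpa using hb⟩

/-- Restriction to a smaller open factors through restriction to an intermediate open. -/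
theorem bijective_restrict_iff {S : Scheme.{u}} {S₀ S₁ : S.Opens} (h01 : S₀ ≤ S₁) (Z N : Over S) :
    Function.Bijective (fun g : Z ⟶ N => (Over.pullback S₀.ι).map g) ↔
      Function.Bijective (fun g : Z ⟶ N => (Over.pullback (S₁.ι ⁻¹ᵁ S₀).ι).map ((Over.pullback S₁.ι).map g)) := by
  have hr : Set.range S₀.ι = Set.range ((S₁.ι ⁻¹ᵁ S₀).ι ≫ S₁.ι) := by
    rw [Scheme.Hom.comp_base, TopCat.coe_comp, Set.range_comp, Scheme.Opens.range_ι, Scheme.Opens.range_ι]
    show (S₀ : Set S) = S₁.ι '' (S₁.ι ⁻¹' (S₀ : Set S))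
    rw [Set.image_preimage_eq_inter_range, Scheme.Opens.range_ι, Set.inter_eq_left.2 (show (S₀ : Set S) ⊆ S₁ from h01)]
  let e := IsOpenImmersion.isoOfRangeEq S₀.ι ((S₁.ι ⁻¹ᵁ S₀).ι ≫ S₁.ι) hr
  have he : S₀.ι = e.hom ≫ (S₁.ι ⁻¹ᵁ S₀).ι ≫ S₁.ι :=
    (IsOpenImmersion.isoOfRangeEq_hom_fac _ _ hr).symm
  let i : Over.pullback S₀.ι ≅
      (Over.pullback S₁.ι ⋙ Over.pullback (S₁.ι ⁻¹ᵁ S₀).ι) ⋙ Over.pullback e.hom :=
    pullbackCongr he ≪≫ Over.pullbackComp e.hom ((S₁.ι ⁻¹ᵁ S₀).ι ≫ S₁.ι) ≪≫
      Functor.isoWhiskerRight (Over.pullbackComp (S₁.ι ⁻¹ᵁ S₀).ι S₁.ι) _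
  rw [bijective_map_iff i]
  exact Function.Bijective.of_comp_iff' (bijective_of_isIso e.hom _ _) _

/-- Composition with an étale morphism having the mapping property. -/
theorem bijective_comp {T S N : Scheme.{u}} (T₀ : T.Opens) (f : S ⟶ T) [Etale f] (g : N ⟶ S)
    (hS : ∀ Z : Over T, Smooth Z.hom → Function.Bijective (fun g : Z ⟶ Over.mk f => (Over.pullback T₀.ι).map g))
    (hN : ∀ Z : Over S, Smooth Z.hom → Function.Bijective (fun g : Z ⟶ Over.mk g => (Over.pullback (f ⁻¹ᵁ T₀).ι).map g))
    (Z : Over T) (hZ : Smooth Z.hom) :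
    Function.Bijective (fun φ : Z ⟶ Over.mk (g ≫ f) => (Over.pullback T₀.ι).map φ) := by
  have sqZ := IsPullback.of_hasPullback Z.hom T₀.ι
  let p := pullback.fst Z.hom T₀.ι
  have hS' := (bijective_iff T₀.ι _ _ sqZ).1 (hS Z hZ)
  rw [bijective_iff T₀.ι _ _ sqZ]
  intro h hh
  obtain ⟨s, hs, hsu⟩ := hS' (h ≫ g) (by simpa using hh)
  have hsw : s.left ≫ f = Z.hom := Over.w s
  haveI : Smooth (s.left ≫ f) := by rw [hsw]; exact hZ
  have hsm : Smooth s.left := S1414.result s.left f
  have sqf := (isPullback_morphismRestrict f T₀).flip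
  let q : pullback Z.hom T₀.ι ⟶ f ⁻¹ᵁ T₀ := sqf.lift (p ≫ s.left) (pullback.snd Z.hom T₀.ι)
    (by rw [Category.assoc, hsw]; exact pullback.condition)
  have sqS : IsPullback p q s.left (f ⁻¹ᵁ T₀).ι := by
    refine IsPullback.of_bot ?_ (sqf.lift_fst _ _ _).symm sqf
    rw [sqf.lift_snd, hsw]
    exact sqZ
  obtain ⟨a, ha, hau⟩ := (bijective_iff (f ⁻¹ᵁ T₀).ι p q (Y := Over.mk s.left) (N := Over.mk g) sqS).1
    (hN (Over.mk s.left) hsm) h (hs.symm.trans rfl)
  have haw : a.left ≫ g = s.left := Over.w a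
  refine ⟨Over.homMk a.left (show a.left ≫ g ≫ f = Z.hom by rw [reassoc_of% haw, hsw]), ha, fun b hb => ?_⟩
  have hbw : b.left ≫ g ≫ f = Z.hom := Over.w b
  have hbs : b.left ≫ g = s.left :=
    congr_arg CommaMorphism.left (hsu (Over.homMk (b.left ≫ g) (by simpa using hbw)) (by
      simp only [Over.homMk_left]
      rw [← Category.assoc, hb]))
  have := hau (Over.homMk b.left hbs) hb
  ext1
  simpa using congr_arg CommaMorphism.left this

/-- The mapping property of a fibre of a morphism over a section. -/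
theorem bijective_fibre {S : Scheme.{u}} {U : Scheme.{u}} (ι : U ⟶ S) {G H : Over S} (f : G ⟶ H)
    (e : S ⟶ H.left) (he : e ≫ H.hom = 𝟙 S) (Z : Over S)
    (hG : Function.Bijective (fun g : Z ⟶ G => (Over.pullback ι).map g))
    (hH : Function.Injective (fun g : Z ⟶ H => (Over.pullback ι).map g)) :
    Function.Bijective (fun g : Z ⟶ Over.mk (pullback.snd f.left e) => (Over.pullback ι).map g) := by
  have sqZ := IsPullback.of_hasPullback Z.hom ι
  rw [bijective_iff ι _ _ sqZ] at hG ⊢
  rw [injective_iff ι _ _ sqZ] at hH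
  intro h hh
  have hh' : h ≫ pullback.snd f.left e = pullback.fst Z.hom ι ≫ Z.hom := hh
  have hfw : f.left ≫ H.hom = G.hom := Over.w f
  obtain ⟨a, ha, hau⟩ := hG (h ≫ pullback.fst f.left e) (by
    rw [Category.assoc, ← hfw, pullback.condition_assoc, he, Category.comp_id, hh'])
  have key : a.left ≫ f.left = Z.hom ≫ e := congr_arg CommaMorphism.left
    (hH (a ≫ f) (Over.homMk (Z.hom ≫ e) (by simp [he])) (by
      simp only [Over.comp_left, Over.homMk_left]
      rw [← Category.assoc, ha, Category.assoc, pullback.condition, reassoc_of% hh']))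
  refine ⟨Over.homMk (pullback.lift a.left Z.hom key) (pullback.lift_snd _ _ _), ?_, fun b hb => ?_⟩
  · simp only [Over.homMk_left]
    apply pullback.hom_ext
    · erw [Category.assoc, pullback.lift_fst]; exact ha
    · erw [Category.assoc, pullback.lift_snd]; exact hh'.symm
  · have hbw : b.left ≫ pullback.snd f.left e = Z.hom := Over.w b
    have hb1 : b.left ≫ pullback.fst f.left e = a.left := congr_arg CommaMorphism.left
      (hau (Over.homMk (b.left ≫ pullback.fst f.left e) (by
        rw [Category.assoc, ← hfw, pullback.condition_assoc, he, Category.comp_id, hbw])) (by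
        simp only [Over.homMk_left]
        rw [← Category.assoc, hb]))
    ext1
    simp only [Over.homMk_left]
    apply pullback.hom_ext
    · erw [pullback.lift_fst]; exact hb1
    · erw [pullback.lift_snd]; exact hbw

/-- The mapping property of a fibre product over the base. -/
theorem bijective_prod {S U : Scheme.{u}} (ι : U ⟶ S) (N M Z : Over S)
    (hN : Function.Bijective (fun g : Z ⟶ N => (Over.pullback ι).map g))
    (hM : Function.Bijective (fun g : Z ⟶ M => (Over.pullback ι).map g)) :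
    Function.Bijective (fun g : Z ⟶ Over.mk (pullback.fst N.hom M.hom ≫ N.hom) => (Over.pullback ι).map g) := by
  have sqZ := IsPullback.of_hasPullback Z.hom ι
  rw [bijective_iff ι _ _ sqZ] at hN hM ⊢
  intro h hh
  have hh' : h ≫ pullback.fst N.hom M.hom ≫ N.hom = pullback.fst Z.hom ι ≫ Z.hom := hh
  obtain ⟨a, ha, hau⟩ := hN (h ≫ pullback.fst N.hom M.hom) (by rw [Category.assoc]; exact hh')
  obtain ⟨b, hb, hbu⟩ := hM (h ≫ pullback.snd N.hom M.hom) (by
    rw [Category.assoc, ← pullback.condition]; exact hh')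
  refine ⟨Over.homMk (pullback.lift a.left b.left ((Over.w a).trans (Over.w b).symm))
    (by show _ ≫ pullback.fst _ _ ≫ N.hom = Z.hom; rw [pullback.lift_fst_assoc]; exact Over.w a), ?_,
    fun c hc => ?_⟩
  · simp only [Over.homMk_left]
    apply pullback.hom_ext
    · erw [Category.assoc, pullback.lift_fst]; exact ha
    · erw [Category.assoc, pullback.lift_snd]; exact hb
  · have hcw : c.left ≫ pullback.fst N.hom M.hom ≫ N.hom = Z.hom := Over.w c
    have h1 : c.left ≫ pullback.fst N.hom M.hom = a.left := congr_arg CommaMorphism.left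
      (hau (Over.homMk (c.left ≫ pullback.fst N.hom M.hom) (by rw [Category.assoc]; exact hcw)) (by
        simp only [Over.homMk_left]
        rw [← Category.assoc, hc]))
    have h2 : c.left ≫ pullback.snd N.hom M.hom = b.left := congr_arg CommaMorphism.left
      (hbu (Over.homMk (c.left ≫ pullback.snd N.hom M.hom) (by
        rw [Category.assoc, ← pullback.condition]; exact hcw)) (by
        simp only [Over.homMk_left]
        rw [← Category.assoc, hc]))
    ext1
    simp only [Over.homMk_left]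
    apply pullback.hom_ext
    · erw [pullback.lift_fst]; exact h1
    · erw [pullback.lift_snd]; exact h2

section MonHom

open MonoidalCategory CartesianMonoidalCategory MonObj

theorem isMonHom_of_mul_hom {C : Type u} [Category.{v} C] [CartesianMonoidalCategory C] {G H : C}
    [GrpObj G] [GrpObj H] (f : H ⟶ G) (hf : μ[H] ≫ f = (f ⊗ₘ f) ≫ μ[G]) : IsMonHom f := by
  refine ⟨?_, hf⟩
  have h1 : (η[H] ≫ f) * (η[H] ≫ f) = η[H] ≫ f := by
    rw [Hom.mul_def, ← lift_map, Category.assoc, ← hf, ← Category.assoc, ← Hom.mul_def]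
    have : (η[H] : 𝟙_ C ⟶ H) = 1 := by simp [Hom.one_def]
    rw [this, _root_.one_mul]
  have h2 : η[H] ≫ f = 1 := mul_left_cancel (h1.trans (_root_.mul_one _).symm)
  rw [h2, Hom.one_def]
  simp

end MonHom

end Groth.Agent.NeronHD
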