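import Groth.Agent.NeronHD.MapProp
import Groth.Prelude.Def_NonAbH2
import Mathlib.AlgebraicGeometry.Sites.Fpqc
import Mathlib.AlgebraicGeometry.Morphisms.Smooth
import Mathlib.AlgebraicGeometry.Morphisms.UnderlyingMap

/-! The mapping property along smooth covers and for pseudo-torsors. -/

set_option autoImplicit false

universe u

open CategoryTheory CategoryTheory.Limits AlgebraicGeometry

namespace Groth.Agent.NeronHD

open NeronLib.MapBij

variable {S U : Scheme.{u}} (jU : U ⟶ S)

/-- The restriction of `W`, as an `S`-scheme. -/
noncomputable abbrev resObj (W : Over S) : Over S := Over.mk (pullback.fst W.hom jU ≫ W.hom)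

noncomputable def res (W : Over S) : resObj jU W ⟶ W := Over.homMk (pullback.fst W.hom jU)

@[simp] theorem res_left (W : Over S) : (res jU W).left = pullback.fst W.hom jU := rfl

noncomputable def resMap {V W : Over S} (f : V ⟶ W) : resObj jU V ⟶ resObj jU W :=
  Over.homMk (pullback.lift (pullback.fst V.hom jU ≫ f.left) (pullback.snd V.hom jU)
    (by rw [Category.assoc, Over.w f]; exact pullback.condition))
    (by simp [pullback.lift_fst_assoc, Over.w f])

@[simp] theorem resMap_left_fst {V W : Over S} (f : V ⟶ W) :
    (resMap jU f).left ≫ pullback.fst W.hom jU = pullback.fst V.hom jU ≫ f.left := pullback.lift_fst _ _ _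

@[simp] theorem resMap_left_snd {V W : Over S} (f : V ⟶ W) :
    (resMap jU f).left ≫ pullback.snd W.hom jU = pullback.snd V.hom jU := pullback.lift_snd _ _ _

theorem resMap_res {V W : Over S} (f : V ⟶ W) : resMap jU f ≫ res jU W = res jU V ≫ f := by
  ext1
  simp

theorem resMap_comp {V W X : Over S} (f : V ⟶ W) (g : W ⟶ X) :
    resMap jU f ≫ resMap jU g = resMap jU (f ≫ g) := by
  ext1
  apply pullback.hom_ext
  · rw [Over.comp_left, Category.assoc, resMap_left_fst, ← Category.assoc, resMap_left_fst,
      resMap_left_fst, Over.comp_left, Category.assoc]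
  · rw [Over.comp_left, Category.assoc, resMap_left_snd, resMap_left_snd, resMap_left_snd]

theorem bijective_map_iff_res (W N : Over S) :
    Function.Bijective (fun g : W ⟶ N => (Over.pullback jU).map g) ↔
      Function.Bijective (fun g : W ⟶ N => res jU W ≫ g) := by
  rw [bijective_iff jU _ _ (IsPullback.of_hasPullback W.hom jU), Function.bijective_iff_existsUnique]
  constructor
  · intro H b
    obtain ⟨f, hf, hu⟩ := H b.left (Over.w b)
    exact ⟨f, by ext1; exact hf, fun f' hf' => hu f' (congrArg CommaMorphism.left hf')⟩
  · intro H h hh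
    obtain ⟨f, hf, hu⟩ := H (Over.homMk h hh)
    exact ⟨f, congrArg CommaMorphism.left hf, fun f' hf' => hu f' (by ext1; exact hf')⟩

/-- The mapping property descends along smooth surjective maps. -/
theorem bijective_res_of_cover {W' W G : Over S} (p : W' ⟶ W) [Smooth p.left] [Surjective p.left]
    (hW' : Function.Bijective (fun g : W' ⟶ G => res jU W' ≫ g))
    (hK : Function.Injective (fun g : Over.mk (pullback.fst p.left p.left ≫ W'.hom) ⟶ G =>
      res jU (Over.mk (pullback.fst p.left p.left ≫ W'.hom)) ≫ g)) :
    Function.Bijective (fun g : W ⟶ G => res jU W ≫ g) := by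
  have sq : IsPullback (pullback.fst W'.hom jU) (resMap jU p).left p.left (pullback.fst W.hom jU) := by
    refine IsPullback.of_bot ?_ (resMap_left_fst jU p).symm (IsPullback.of_hasPullback W.hom jU)
    rw [resMap_left_snd, Over.w p]
    exact IsPullback.of_hasPullback W'.hom jU
  haveI : Smooth (resMap jU p).left := MorphismProperty.of_isPullback sq inferInstance
  haveI : Surjective (resMap jU p).left := MorphismProperty.of_isPullback sq inferInstance
  constructor
  · intro g₁ g₂ h
    have h' : res jU W' ≫ p ≫ g₁ = res jU W' ≫ p ≫ g₂ := by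
      simp only [← Category.assoc, ← resMap_res]
      simp only [Category.assoc]
      exact congrArg (resMap jU p ≫ ·) h
    have := congrArg CommaMorphism.left (hW'.1 h')
    ext1
    rw [← cancel_epi p.left]
    simpa using this
  · intro h
    obtain ⟨g', hg'⟩ := hW'.2 (resMap jU p ≫ h)
    replace hg' : res jU W' ≫ g' = resMap jU p ≫ h := hg'
    let k₁ : Over.mk (pullback.fst p.left p.left ≫ W'.hom) ⟶ W' := Over.homMk (pullback.fst p.left p.left)
    let k₂ : Over.mk (pullback.fst p.left p.left ≫ W'.hom) ⟶ W' := Over.homMk (pullback.snd p.left p.left)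
      (by show _ ≫ W'.hom = _ ≫ W'.hom; rw [← Over.w p, pullback.condition_assoc])
    have hkp : k₁ ≫ p = k₂ ≫ p := by ext1; exact pullback.condition
    have hk : k₁ ≫ g' = k₂ ≫ g' := by
      apply hK
      show res jU _ ≫ k₁ ≫ g' = res jU _ ≫ k₂ ≫ g'
      simp only [← Category.assoc, ← resMap_res]
      simp only [Category.assoc, hg']
      simp only [← Category.assoc, resMap_comp, hkp]
    have hdesc : ∀ {Z : Scheme.{u}} (a b : Z ⟶ W'.left), a ≫ p.left = b ≫ p.left → a ≫ g'.left = b ≫ g'.left := by
      intro Z a b hab
      have e : k₁.left ≫ g'.left = k₂.left ≫ g'.left := congrArg CommaMorphism.left hk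
      have := congrArg (pullback.lift a b hab ≫ ·) e
      simpa [k₁, k₂, pullback.lift_fst_assoc, pullback.lift_snd_assoc] using this
    let g := EffectiveEpi.desc p.left g'.left hdesc
    have hg : p.left ≫ g = g'.left := EffectiveEpi.fac p.left g'.left hdesc
    refine ⟨Over.homMk g (by rw [← cancel_epi p.left, reassoc_of% hg, Over.w g', Over.w p]), ?_⟩
    ext1
    rw [← cancel_epi (resMap jU p).left]
    have e2 := congrArg CommaMorphism.left hg'
    simp only [Over.comp_left, res_left, Over.homMk_left] at e2 ⊢
    rw [← Category.assoc, resMap_left_fst, Category.assoc, hg, e2]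

section Torsor

open MonoidalCategory CartesianMonoidalCategory MonObj

variable {G N : Over S}

/-- Translation identifies maps into the group with maps into the torsor. -/
noncomputable def transEquiv [GrpObj G] (a : AlgGrp.Action G N) [IsIso (lift a.act (snd G N))]
    {W : Over S} (w : W ⟶ N) : (W ⟶ G) ≃ (W ⟶ N) where
  toFun g := lift g w ≫ a.act
  invFun n := lift n w ≫ inv (lift a.act (snd G N)) ≫ fst G N
  left_inv g := by
    have e : lift (lift g w ≫ a.act) w = lift g w ≫ lift a.act (snd G N) := by
      ext <;> simp
    simp only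
    rw [e, Category.assoc, IsIso.hom_inv_id_assoc, lift_fst]
  right_inv n := by
    have e : lift (lift n w ≫ inv (lift a.act (snd G N)) ≫ fst G N) w =
        lift n w ≫ inv (lift a.act (snd G N)) := by
      apply CartesianMonoidalCategory.hom_ext
      · simp
      · rw [lift_snd, Category.assoc]
        conv_rhs => rw [show inv (lift a.act (snd G N)) ≫ snd G N = snd N N by
          rw [IsIso.inv_comp_eq, lift_snd]]
        rw [lift_snd]
    simp only
    rw [e, Category.assoc, show inv (lift a.act (snd G N)) ≫ a.act = fst N N by
      rw [IsIso.inv_comp_eq, lift_fst], lift_fst]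

theorem bijective_res_iff_torsor [GrpObj G] (a : AlgGrp.Action G N) [IsIso (lift a.act (snd G N))]
    {W : Over S} (w : W ⟶ N) :
    Function.Bijective (fun g : W ⟶ G => res jU W ≫ g) ↔
      Function.Bijective (fun g : W ⟶ N => res jU W ≫ g) := by
  have key : (fun g : W ⟶ N => res jU W ≫ g) ∘ transEquiv a w =
      transEquiv a (res jU W ≫ w) ∘ fun g : W ⟶ G => res jU W ≫ g := by
    funext g
    show res jU W ≫ lift g w ≫ a.act = lift (res jU W ≫ g) (res jU W ≫ w) ≫ a.act
    rw [← comp_lift, Category.assoc]
  rw [← Function.Bijective.of_comp_iff _ (transEquiv a w).bijective, key,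
    Function.Bijective.of_comp_iff' (transEquiv a (res jU W ≫ w)).bijective]

/-- The mapping property transfers between a group and a pseudo-torsor with a smooth surjective structure map. -/
theorem bijective_res_of_torsor [Smooth N.hom] [Surjective N.hom] {X : Over S}
    (hX : ∀ W : Over S, Smooth W.hom → (W ⟶ N) → Function.Bijective (fun g : W ⟶ X => res jU W ≫ g))
    (Z : Over S) (hZ : Smooth Z.hom) : Function.Bijective (fun g : Z ⟶ X => res jU Z ≫ g) := by
  haveI hs : Smooth (fst Z N).left :=
    show Smooth (pullback.fst Z.hom N.hom) from inferInstance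
  haveI : Surjective (fst Z N).left :=
    show Surjective (pullback.fst Z.hom N.hom) from inferInstance
  have h1 : Smooth (Z ⊗ N).hom := show Smooth (pullback.fst Z.hom N.hom ≫ Z.hom) from inferInstance
  refine bijective_res_of_cover jU (fst Z N) (hX _ h1 (snd Z N)) ?_
  have h2 : Smooth (Over.mk (pullback.fst (fst Z N).left (fst Z N).left ≫ (Z ⊗ N).hom)).hom := by
    haveI := h1
    show Smooth (_ ≫ _)
    infer_instance
  exact (hX _ h2 (Over.homMk (pullback.fst (fst Z N).left (fst Z N).left ≫ (snd Z N).left)
    (by simp [← pullback.condition]))).1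

end Torsor

end Groth.Agent.NeronHD
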